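import Mathlib
import Cfsg.Agent.Lib.Helper5.QuadSign.ProdTwo
import Cfsg.Agent.Lib.Helper5.QuadSign.GeoInst
import Cfsg.Agent.Lib.Helper5.OElus.Bridge

set_option autoImplicit false

/-!
# The sign of an orthogonal sum, over all finite fields
-/

namespace Cfsg.Agent.Lib.Helper5.ONd

open QuadraticMap Module Cfsg
open Cfsg.Agent.Lib.Helper5.QuadTwo Cfsg.Agent.Lib.Helper5.QuadSign
open Cfsg.Agent.Lib.Helper5.OElus

universe u v

section sign
variable {F : Type u} [Field F] [Fintype F] {V : Type v} [AddCommGroup V] [Module F V]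

/-- the sign of a nondegenerate form of even dimension is `1` or `-1` -/
theorem sign_eq_pm [FiniteDimensional F V] (Q : QuadraticForm F V) (hQ : Nd Q) (k : ℕ)
    (hk : finrank F V = 2 * k) {s : ℤ} (hs : HasSign Q k s) : s = 1 ∨ s = -1 := by
  rcases (geo_all (F := F)).hasSign Q hQ k hk with h | h
  · exact Or.inl (hs.unique h)
  · exact Or.inr (hs.unique h)

theorem nd_smul (Q : QuadraticForm F V) (hQ : Nd Q) (c : F) (hc : c ≠ 0) : Nd (c • Q) := by
  intro v hv
  apply hQ v
  intro w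
  have h1 := hv w
  have h2 : polar (⇑(c • Q)) w v = c * polar (⇑Q) w v := by
    have h3 : ∀ x, (c • Q) x = c * Q x := fun x => rfl
    unfold polar
    rw [h3, h3, h3]
    ring
  rw [h2] at h1
  exact (mul_eq_zero.1 h1).resolve_left hc

theorem zeros_smul (Q : QuadraticForm F V) (c : F) (hc : c ≠ 0) :
    zeros (⇑(c • Q)) = zeros (⇑Q) := by
  unfold zeros
  apply Nat.card_congr
  apply Equiv.subtypeEquivRight
  intro x
  have h3 : (c • Q) x = c * Q x := rfl
  rw [h3, mul_eq_zero]
  exact ⟨fun h => h.resolve_left hc, Or.inr⟩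

/-- a nondegenerate form of even dimension takes all nonzero values equally often -/
theorem balanced_of_nd [Fintype V] (Q : QuadraticForm F V) (hQ : Nd Q) (k : ℕ)
    (hk : finrank F V = 2 * k) (c : F) (hc : c ≠ 0) : cnt Q c = cnt Q 1 := by
  have : FiniteDimensional F V := Module.Finite.of_finite
  obtain ⟨φ, hφ⟩ := (geo_all (F := F)).iso_of_zeros_eq_aux k V V Q (c • Q) hQ (nd_smul Q hQ c hc)
    hk hk (zeros_smul Q c hc).symm
  have h1 : (fun x => Q x) = fun x => c * Q (φ x) := by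
    funext x
    have := hφ x
    have h3 : (c • Q) (φ x) = c * Q (φ x) := rfl
    rw [h3] at this
    exact this.symm
  have h2 : cnt (fun x => Q x) c = cnt (fun x => c * Q (φ x)) (c * 1) := by
    rw [mul_one, ← h1]
  have h3 := cnt_mul_left (fun x => Q (φ x)) hc 1
  have h4 := cnt_congr_equiv φ.toEquiv (fun x => Q (φ x)) (fun x => Q x) (fun a => rfl) 1
  exact h2.trans (h3.trans h4)

end sign

section prod
variable {F : Type u} [Field F] [Fintype F] {V : Type v} {V' : Type v} [AddCommGroup V]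
  [Module F V] [AddCommGroup V'] [Module F V']

/-- **The sign is multiplicative.** -/
theorem hasSign_prod [FiniteDimensional F V] [FiniteDimensional F V']
    (Q : QuadraticForm F V) (Q' : QuadraticForm F V') (hQ : Nd Q) (a b : ℕ)
    (ha : finrank F V = 2 * a) (hb : finrank F V' = 2 * b) (s s' : ℤ) (hs : HasSign Q a s)
    (hs' : HasSign Q' b s') : HasSign (Q.prod Q') (a + b) (s * s') := by
  classical
  have : Finite V := Module.finite_of_finite F
  have : Finite V' := Module.finite_of_finite F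
  have : Fintype V := Fintype.ofFinite V
  have : Fintype V' := Fintype.ofFinite V'
  obtain ⟨n, hn1, hn2⟩ : ∃ n : ℕ, Fintype.card V = zeros Q + (Fintype.card F - 1) * n ∧
      zeros (Q.prod Q') = zeros Q * zeros Q' + n * (Fintype.card V' - zeros Q') := by
    refine ⟨cnt Q 1, ?_, ?_⟩
    · rw [zeros_eq_cnt]
      exact card_eq_of_balanced Q _ (fun c hc => balanced_of_nd Q hQ a ha c hc)
    · rw [zeros_eq_cnt, zeros_eq_cnt, zeros_eq_cnt]
      have h := cnt_add_of_balanced (fun x : V => Q x) (fun y : V' => Q' y) (cnt Q 0) (cnt Q 1)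
        rfl (fun c hc => balanced_of_nd Q hQ a ha c hc)
      rw [← h]
      rfl
  have hcV : Fintype.card V = Fintype.card F ^ (2 * a) := by
    rw [← ha]
    exact Module.card_eq_pow_finrank
  have hcV' : Fintype.card V' = Fintype.card F ^ (2 * b) := by
    rw [← hb]
    exact Module.card_eq_pow_finrank
  have hle : zeros Q' ≤ Fintype.card V' := by
    rw [zeros_eq_cnt]
    exact cnt_le _ _
  have hq1 : 1 ≤ Fintype.card F := Fintype.card_pos
  unfold HasSign at hs hs' ⊢
  have e1 : ((Fintype.card F : ℤ)) ^ (2 * a) =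
      (zeros Q : ℤ) + ((Fintype.card F : ℤ) - 1) * n := by
    have h := hn1
    rw [hcV] at h
    zify [hq1] at h
    exact h
  have e2 : (zeros (Q.prod Q') : ℤ) =
      (zeros Q : ℤ) * zeros Q' + n * ((Fintype.card F : ℤ) ^ (2 * b) - zeros Q') := by
    have h := hn2
    rw [hcV'] at h hle
    zify [hle] at h
    exact h
  have hpos := card_sub_one_pos (F := F)
  have hq0 : (0 : ℤ) < (Fintype.card F : ℤ) := by exact_mod_cast Fintype.card_pos
  obtain ⟨q, hq⟩ : ∃ q : ℤ, q = (Fintype.card F : ℤ) := ⟨_, rfl⟩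
  obtain ⟨A, hA⟩ : ∃ A : ℤ, A = q ^ a := ⟨_, rfl⟩
  obtain ⟨B, hB⟩ : ∃ B : ℤ, B = q ^ b := ⟨_, rfl⟩
  rw [← hq] at hs hs' e1 e2 hpos hq0 ⊢
  have hA2 : q ^ (2 * a) = A * A := by rw [hA]; ring
  have hB2 : q ^ (2 * b) = B * B := by rw [hB]; ring
  have hAB2 : q ^ (2 * (a + b)) = A * A * (B * B) := by rw [hA, hB]; ring
  have hAB : q ^ (a + b) = A * B := by rw [hA, hB]; ring
  rw [hA2] at e1
  rw [hA2, ← hA] at hs
  rw [hB2] at e2
  rw [hB2, ← hB] at hs'
  rw [hAB2, hAB, e2]
  have hne : q * (q - 1) ≠ 0 := mul_ne_zero hq0.ne' hpos.ne'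
  apply mul_left_cancel₀ hne
  have hN' : (q - 1) * (n : ℤ) = A * A - (zeros (⇑Q) : ℤ) := by linarith
  linear_combination (q * (q * B * B - q * (zeros (⇑Q') : ℤ))) * hN' +
    (q * (q * (zeros (⇑Q') : ℤ) - B * B)) * hs + (q * (s * (q - 1) * A)) * hs'

end prod

end Cfsg.Agent.Lib.Helper5.ONd
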