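import Mathlib
import Cfsg.Agent.Lib.Helper5.ONd.Sign

set_option autoImplicit false

/-!
# Orthogonal sums of nondegenerate subspaces: nondegeneracy, dimension and sign
-/

namespace Cfsg.Agent.Lib.Helper5.ONd

open QuadraticMap Module Cfsg
open Cfsg.Agent.Lib.Helper5.QuadTwo Cfsg.Agent.Lib.Helper5.QuadSign
open Cfsg.Agent.Lib.Helper5.OElus

universe u v

section sup
variable {F : Type u} [Field F] {V : Type v} [AddCommGroup V] [Module F V]

/-- orthogonality of two subspaces for the polar form -/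
def Perp (Q : QuadraticForm F V) (W₁ W₂ : Submodule F V) : Prop :=
  ∀ u ∈ W₁, ∀ w ∈ W₂, polar Q u w = 0

theorem Perp.symm {Q : QuadraticForm F V} {W₁ W₂ : Submodule F V} (h : Perp Q W₁ W₂) :
    Perp Q W₂ W₁ := fun u hu w hw => by rw [polar_comm]; exact h w hw u hu

theorem Perp.mono {Q : QuadraticForm F V} {W₁ W₂ W₁' W₂' : Submodule F V} (h : Perp Q W₁ W₂)
    (h1 : W₁' ≤ W₁) (h2 : W₂' ≤ W₂) : Perp Q W₁' W₂' := fun u hu w hw => h u (h1 hu) w (h2 hw)

theorem perp_bot_right (Q : QuadraticForm F V) (W : Submodule F V) : Perp Q W ⊥ := by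
  intro u _ w hw
  rw [(Submodule.mem_bot F).1 hw, polar_zero_right]

theorem perp_bot_left (Q : QuadraticForm F V) (W : Submodule F V) : Perp Q ⊥ W :=
  (perp_bot_right Q W).symm

theorem Perp.sup_left {Q : QuadraticForm F V} {W₁ W₂ W₃ : Submodule F V} (h1 : Perp Q W₁ W₃)
    (h2 : Perp Q W₂ W₃) : Perp Q (W₁ ⊔ W₂) W₃ := by
  intro u hu w hw
  obtain ⟨a, ha, b, hb, rfl⟩ := Submodule.mem_sup.1 hu
  rw [polar_add_left, h1 a ha w hw, h2 b hb w hw, add_zero]

theorem Perp.sup_right {Q : QuadraticForm F V} {W₁ W₂ W₃ : Submodule F V} (h1 : Perp Q W₁ W₂)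
    (h2 : Perp Q W₁ W₃) : Perp Q W₁ (W₂ ⊔ W₃) :=
  (Perp.sup_left h1.symm h2.symm).symm

theorem disjoint_of_perp {Q : QuadraticForm F V} {W₁ W₂ : Submodule F V} (h : Perp Q W₁ W₂)
    (h1 : NdOn Q W₁) : Disjoint W₁ W₂ := by
  rw [Submodule.disjoint_def]
  intro x hx1 hx2
  exact h1 x hx1 (fun w hw => h w hw x hx2)

theorem ndOn_sup {Q : QuadraticForm F V} {W₁ W₂ : Submodule F V} (h : Perp Q W₁ W₂)
    (h1 : NdOn Q W₁) (h2 : NdOn Q W₂) : NdOn Q (W₁ ⊔ W₂) := by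
  intro v hv hvw
  obtain ⟨a, ha, b, hb, rfl⟩ := Submodule.mem_sup.1 hv
  have ha0 : a = 0 := by
    apply h1 a ha
    intro w hw
    have := hvw w (Submodule.mem_sup_left hw)
    rwa [polar_add_right, h w hw b hb, add_zero] at this
  have hb0 : b = 0 := by
    apply h2 b hb
    intro w hw
    have := hvw w (Submodule.mem_sup_right hw)
    rwa [polar_add_right, h.symm w hw a ha, zero_add] at this
  rw [ha0, hb0, add_zero]

theorem ndOn_bot' (Q : QuadraticForm F V) : NdOn Q ⊥ := by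
  intro v hv _
  exact (Submodule.mem_bot F).1 hv

theorem finrank_sup_of_perp [FiniteDimensional F V] {Q : QuadraticForm F V}
    {W₁ W₂ : Submodule F V} (h : Perp Q W₁ W₂) (h1 : NdOn Q W₁) :
    finrank F (W₁ ⊔ W₂ : Submodule F V) = finrank F W₁ + finrank F W₂ := by
  have h3 := Submodule.finrank_sup_add_finrank_inf_eq W₁ W₂
  rw [(disjoint_of_perp h h1).eq_bot, finrank_bot, add_zero] at h3
  exact h3

/-- the sum map `W₁ × W₂ → W₁ ⊔ W₂` -/
noncomputable def supEquiv {Q : QuadraticForm F V} {W₁ W₂ : Submodule F V} (h : Perp Q W₁ W₂)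
    (h1 : NdOn Q W₁) : (W₁ × W₂) ≃ ↥(W₁ ⊔ W₂ : Submodule F V) :=
  Equiv.ofBijective (fun p => ⟨(p.1 : V) + (p.2 : V),
    Submodule.add_mem_sup p.1.2 p.2.2⟩) (by
    constructor
    · rintro ⟨a, b⟩ ⟨a', b'⟩ hab
      have h3 : (a : V) + b = a' + b' := congrArg Subtype.val hab
      have h4 : (a : V) - a' = b' - b := by
        rw [sub_eq_sub_iff_add_eq_add, h3, add_comm]
      have h5 : (a : V) - a' ∈ W₁ ⊓ W₂ :=
        Submodule.mem_inf.2 ⟨W₁.sub_mem a.2 a'.2, by rw [h4]; exact W₂.sub_mem b'.2 b.2⟩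
      rw [(disjoint_of_perp h h1).eq_bot, Submodule.mem_bot] at h5
      have h6 : (b' : V) - b = 0 := by rw [← h4, h5]
      exact Prod.ext (Subtype.ext (sub_eq_zero.1 h5)) (Subtype.ext (sub_eq_zero.1 h6).symm)
    · rintro ⟨x, hx⟩
      obtain ⟨a, ha, b, hb, rfl⟩ := Submodule.mem_sup.1 hx
      exact ⟨(⟨a, ha⟩, ⟨b, hb⟩), rfl⟩)

theorem supEquiv_apply {Q : QuadraticForm F V} {W₁ W₂ : Submodule F V} (h : Perp Q W₁ W₂)
    (h1 : NdOn Q W₁) (p : W₁ × W₂) : ((supEquiv h h1 p : ↥(W₁ ⊔ W₂ : Submodule F V)) : V) =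
      (p.1 : V) + (p.2 : V) := rfl

variable [Fintype F] [FiniteDimensional F V]

/-- **the sign of an orthogonal sum** -/
theorem hasSign_sup {Q : QuadraticForm F V} {W₁ W₂ : Submodule F V} (h : Perp Q W₁ W₂)
    (h1 : NdOn Q W₁) (a b : ℕ) (ha : finrank F W₁ = 2 * a) (hb : finrank F W₂ = 2 * b)
    (s s' : ℤ) (hs : HasSign (res Q W₁) a s) (hs' : HasSign (res Q W₂) b s') :
    HasSign (res Q (W₁ ⊔ W₂)) (a + b) (s * s') := by
  have h3 := hasSign_prod (res Q W₁) (res Q W₂) ((nd_res_iff Q W₁).2 h1) a b ha hb s s' hs hs'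
  refine (hasSign_congr (supEquiv h h1) ((res Q W₁).prod (res Q W₂)) (res Q (W₁ ⊔ W₂)) ?_
    (a + b) (s * s')).1 h3
  intro p
  rw [res_apply, supEquiv_apply, QuadraticMap.prod_apply, res_apply, res_apply]
  exact q_add_of_orth h p.1 p.2

/-- the sign of a nondegenerate subspace of even dimension is `1` or `-1` -/
theorem sign_eq_pm_on (Q : QuadraticForm F V) {W : Submodule F V} (hW : NdOn Q W) (k : ℕ)
    (hk : finrank F W = 2 * k) {s : ℤ} (hs : HasSign (res Q W) k s) : s = 1 ∨ s = -1 :=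
  sign_eq_pm (res Q W) ((nd_res_iff Q W).2 hW) k hk hs

theorem exists_sign_on (Q : QuadraticForm F V) {W : Submodule F V} (hW : NdOn Q W) (k : ℕ)
    (hk : finrank F W = 2 * k) : ∃ s : ℤ, (s = 1 ∨ s = -1) ∧ HasSign (res Q W) k s := by
  rcases (geo_all (F := F)).hasSign (res Q W) ((nd_res_iff Q W).2 hW) k hk with h | h
  · exact ⟨1, Or.inl rfl, h⟩
  · exact ⟨-1, Or.inr rfl, h⟩

/-- the sign of a factor of an orthogonal sum -/
theorem hasSign_of_sup {Q : QuadraticForm F V} {W₁ W₂ : Submodule F V} (h : Perp Q W₁ W₂)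
    (h1 : NdOn Q W₁) (h2 : NdOn Q W₂) (a b : ℕ) (ha : finrank F W₁ = 2 * a)
    (hb : finrank F W₂ = 2 * b) (s t : ℤ) (hs : HasSign (res Q W₁) a s)
    (ht : HasSign (res Q (W₁ ⊔ W₂)) (a + b) t) : HasSign (res Q W₂) b (s * t) := by
  obtain ⟨s', hs'1, hs'⟩ := exists_sign_on Q h2 b hb
  have h3 := hasSign_sup h h1 a b ha hb s s' hs hs'
  have h4 := ht.unique h3
  have hs1 := sign_eq_pm_on Q h1 a ha hs
  have h5 : s * t = s' := by
    rw [h4]
    rcases hs1 with h | h <;> rw [h] <;> ring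
  rw [h5]
  exact hs'

end sup

end Cfsg.Agent.Lib.Helper5.ONd
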