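import Mathlib
import Cfsg.Agent.Lib.Helper5.ONd.Sup
import Cfsg.Agent.Lib.Helper5.QuadSign.RealEven

set_option autoImplicit false

/-!
# Nondegenerate subspaces of prescribed dimension and sign, over all finite fields
-/

namespace Cfsg.Agent.Lib.Helper5.ONd

open QuadraticMap Module Cfsg
open Cfsg.Agent.Lib.Helper5.QuadTwo Cfsg.Agent.Lib.Helper5.QuadSign
open Cfsg.Agent.Lib.Helper5.OElus

universe u

section std
variable {F : Type u} [Field F] [Fintype F]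

/-- an anisotropic binary form, over every finite field -/
theorem exists_aniso_all : ∃ a c : F, ∀ z₁ z₂ : F,
    z₁ ^ 2 + a * z₁ * z₂ + c * z₂ ^ 2 = 0 → z₁ = 0 ∧ z₂ = 0 := by
  by_cases h2 : (2 : F) = 0
  · obtain ⟨c₀, hc₀⟩ := exists_aniso_two (F := F) h2
    exact ⟨1, c₀, hc₀⟩
  · classical
    have hchar : ringChar F ≠ 2 := by
      intro h
      apply h2
      have := ringChar.Nat.cast_ringChar (R := F)
      rw [h] at this
      exact_mod_cast this
    obtain ⟨ν, hνa⟩ := quadraticChar_exists_neg_one hchar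
    have hν : ¬ IsSquare ν := quadraticChar_neg_one_iff_not_isSquare.mp hνa
    refine ⟨0, -ν, ?_⟩
    intro z₁ z₂ h
    by_cases hz : z₂ = 0
    · rw [hz] at h
      have : z₁ ^ 2 = 0 := by
        rw [← h]
        ring
      exact ⟨pow_eq_zero_iff two_ne_zero |>.1 this, hz⟩
    · exfalso
      apply hν
      refine ⟨z₁ / z₂, ?_⟩
      field_simp
      linear_combination -h

/-- standard spaces of both signs in every positive even dimension -/
theorem exists_std_all (j : ℕ) (hj : 1 ≤ j) (s : ℤ) (hs : s = 1 ∨ s = -1) :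
    ∃ (κ : Type) (_ : Fintype κ) (Q₁ : QuadraticForm F (κ → F)),
      Nd Q₁ ∧ finrank F (κ → F) = 2 * j ∧ HasSign Q₁ j s := by
  rcases hs with rfl | rfl
  · exact ⟨Fin j ⊕ Fin j, inferInstance, qPlus j, nd_qPlus j, finrank_plus j, hasSign_qPlus j⟩
  · obtain ⟨a, c₀, hc₀⟩ := exists_aniso_all (F := F)
    obtain ⟨j', rfl⟩ : ∃ j', j = j' + 1 := ⟨j - 1, by omega⟩
    exact ⟨(Fin j' ⊕ Fin j') ⊕ Fin 2, inferInstance, qMinus j' a c₀, nd_qMinus j' hc₀,
      finrank_minus j', hasSign_qMinus j' hc₀⟩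

end std

section typed
variable {F : Type u} [Field F] {V : Type u} [AddCommGroup V] [Module F V]

theorem nd_of_equiv {V₁ V₂ : Type*} [AddCommGroup V₁] [Module F V₁] [AddCommGroup V₂]
    [Module F V₂] (Q₁ : QuadraticForm F V₁) (Q₂ : QuadraticForm F V₂) (e : V₁ ≃ₗ[F] V₂)
    (h : ∀ x, Q₂ (e x) = Q₁ x) (hQ₁ : Nd Q₁) : Nd Q₂ := by
  intro v hv
  have h1 : e.symm v = 0 := by
    apply hQ₁
    intro w
    have h2 := hv (e w)
    have h3 : polar (⇑Q₂) (e w) (e (e.symm v)) = polar (⇑Q₁) w (e.symm v) := by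
      unfold polar
      rw [← map_add, h, h, h]
    rw [LinearEquiv.apply_symm_apply] at h3
    rw [← h3]
    exact h2
  have := congrArg e h1
  rwa [LinearEquiv.apply_symm_apply, map_zero] at this

variable [Fintype F] [FiniteDimensional F V]

/-- **nondegenerate subspaces of every intermediate even dimension and both signs** -/
theorem exists_typed_sub (Q : QuadraticForm F V) (C : Submodule F V) (hC : NdOn Q C) (n : ℕ)
    (hn : finrank F C = 2 * n) (j : ℕ) (hj : 0 < j) (hjn : j < n) (s : ℤ)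
    (hs : s = 1 ∨ s = -1) :
    ∃ W₀ : Submodule F V, W₀ ≤ C ∧ finrank F W₀ = 2 * j ∧ NdOn Q W₀ ∧
      HasSign (res Q W₀) j s := by
  obtain ⟨σ, hσ1, hσ⟩ := exists_sign_on Q hC n hn
  obtain ⟨κ₁, _, Q₁, hQ₁, hd₁, hs₁⟩ := exists_std_all (F := F) j hj s hs
  obtain ⟨κ₂, _, Q₂, hQ₂, hd₂, hs₂⟩ := exists_std_all (F := F) (n - j) (by omega) (s * σ)
    (by rcases hs with h | h <;> rcases hσ1 with h' | h' <;> rw [h, h'] <;> simp)
  have hsP := hasSign_prod Q₁ Q₂ hQ₁ j (n - j) hd₁ hd₂ s (s * σ) hs₁ hs₂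
  have hsσ : s * (s * σ) = σ := by
    rcases hs with h | h <;> rw [h] <;> ring
  rw [hsσ, show j + (n - j) = n by omega] at hsP
  obtain ⟨φ, hφ⟩ := (geo_all (F := F)).iso_of_hasSign (Q₁.prod Q₂) (res Q C)
    (nd_prod Q₁ Q₂ hQ₁ hQ₂) ((nd_res_iff Q C).2 hC) n
    (by rw [Module.finrank_prod, hd₁, hd₂]; omega) hn σ hsP hσ
  obtain ⟨ψ, hψ⟩ : ∃ ψ : (κ₁ → F) →ₗ[F] V,
      ψ = C.subtype ∘ₗ (φ : ((κ₁ → F) × (κ₂ → F)) →ₗ[F] C) ∘ₗ LinearMap.inl F (κ₁ → F) (κ₂ → F) :=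
    ⟨_, rfl⟩
  have hψapp : ∀ x, ψ x = ((φ (x, 0) : C) : V) := fun x => by rw [hψ]; rfl
  have hinj : Function.Injective ψ := by
    intro x y hxy
    rw [hψapp, hψapp] at hxy
    have := φ.injective (Subtype.ext hxy)
    exact (Prod.ext_iff.1 this).1
  have hQψ : ∀ x, Q (ψ x) = Q₁ x := by
    intro x
    rw [hψapp]
    have := hφ (x, 0)
    rw [res_apply] at this
    rw [this, QuadraticMap.prod_apply, map_zero, add_zero]
  obtain ⟨e, he⟩ : ∃ e : (κ₁ → F) ≃ₗ[F] LinearMap.range ψ, e = LinearEquiv.ofInjective ψ hinj :=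
    ⟨_, rfl⟩
  have heapp : ∀ x, ((e x : LinearMap.range ψ) : V) = ψ x := fun x => by rw [he]; rfl
  have hQe : ∀ x, res Q (LinearMap.range ψ) (e x) = Q₁ x := by
    intro x
    rw [res_apply, heapp, hQψ]
  refine ⟨LinearMap.range ψ, ?_, ?_, ?_, ?_⟩
  · rintro _ ⟨x, rfl⟩
    rw [hψapp]
    exact (φ (x, 0)).2
  · rw [← e.finrank_eq, hd₁]
  · exact (nd_res_iff Q _).1 (nd_of_equiv Q₁ (res Q (LinearMap.range ψ)) e hQe hQ₁)
  · exact (hasSign_congr e.toEquiv Q₁ (res Q (LinearMap.range ψ)) hQe j s).1 hs₁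

/-- **nondegenerate subspaces containing a given one**, of prescribed sign -/
theorem exists_typed_sup_all (Q : QuadraticForm F V) (C U : Submodule F V) (horth : Perp Q C U)
    (hC : NdOn Q C) (hU : NdOn Q U) (n u : ℕ) (hn : finrank F C = 2 * n)
    (hu : finrank F U = 2 * u) (j : ℕ) (hj : 0 < j) (hjn : j < n) (s : ℤ)
    (hs : s = 1 ∨ s = -1) :
    ∃ W₀ : Submodule F V, W₀ ≤ C ∧ finrank F (W₀ ⊔ U : Submodule F V) = 2 * (j + u) ∧
      NdOn Q (W₀ ⊔ U) ∧ HasSign (res Q (W₀ ⊔ U)) (j + u) s := by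
  obtain ⟨τ, hτ1, hτ⟩ := exists_sign_on Q hU u hu
  obtain ⟨W₀, hW₀C, hW₀d, hW₀nd, hW₀s⟩ := exists_typed_sub Q C hC n hn j hj hjn (s * τ)
    (by rcases hs with h | h <;> rcases hτ1 with h' | h' <;> rw [h, h'] <;> simp)
  have hperp : Perp Q W₀ U := horth.mono hW₀C le_rfl
  refine ⟨W₀, hW₀C, ?_, ndOn_sup hperp hW₀nd hU, ?_⟩
  · rw [finrank_sup_of_perp hperp hW₀nd, hW₀d, hu]
    ring
  · have := hasSign_sup hperp hW₀nd j u hW₀d hu (s * τ) τ hW₀s hτ
    have h1 : s * τ * τ = s := by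
      rcases hτ1 with h | h <;> rw [h] <;> ring
    rwa [h1] at this

end typed

end Cfsg.Agent.Lib.Helper5.ONd
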