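import Mathlib
import Cfsg.Agent.Lib.Helper5.ONd.Typed
import Cfsg.Agent.Lib.Helper5.OElus.Grow
import Cfsg.Agent.Lib.Helper5.OElus.Sign
import Cfsg.Agent.Lib.Helper5.OElus.Suff

set_option autoImplicit false

/-!
# Isometries of order prime to the characteristic: fixed and moving parts of invariant
nondegenerate subspaces, over all finite fields
-/

namespace Cfsg.Agent.Lib.Helper5.ONd

open QuadraticMap Module Cfsg
open Cfsg.Agent.Lib.Helper5.QuadTwo Cfsg.Agent.Lib.Helper5.QuadSign
open Cfsg.Agent.Lib.Helper5.OElus Cfsg.Agent.Lib.Helper5.OrthPrime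
open Cfsg.Agent.Lib.Helper2 Cfsg.Agent.Lib.Helper2.SpImp

universe u v

section parts
variable {F : Type u} [Field F] {V : Type v} [AddCommGroup V] [Module F V]

/-- the fixed part of a subspace -/
def fixPart (g : V →ₗ[F] V) (W : Submodule F V) : Submodule F V := W ⊓ LinearMap.ker (g - 1)

/-- the moving part of a subspace -/
def movPart (g : V →ₗ[F] V) (W : Submodule F V) : Submodule F V := W.map (g - 1)

theorem mem_fixPart (g : V →ₗ[F] V) (W : Submodule F V) (x : V) :
    x ∈ fixPart g W ↔ x ∈ W ∧ g x = x := by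
  unfold fixPart
  rw [Submodule.mem_inf, LinearMap.mem_ker, LinearMap.sub_apply, Module.End.one_apply,
    sub_eq_zero]

theorem mem_movPart (g : V →ₗ[F] V) (W : Submodule F V) (x : V) :
    x ∈ movPart g W ↔ ∃ y ∈ W, g y - y = x := by
  unfold movPart
  rw [Submodule.mem_map]
  rfl

theorem fixPart_le (g : V →ₗ[F] V) (W : Submodule F V) : fixPart g W ≤ W := inf_le_left

theorem movPart_le (g : V →ₗ[F] V) (W : Submodule F V) (hW : ∀ x ∈ W, g x ∈ W) :
    movPart g W ≤ W := by
  intro x hx
  obtain ⟨y, hy, rfl⟩ := (mem_movPart g W x).1 hx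
  exact W.sub_mem (hW y hy) hy

theorem fixPart_top (g : V →ₗ[F] V) : fixPart g ⊤ = LinearMap.ker (g - 1) := top_inf_eq _

theorem movPart_top (g : V →ₗ[F] V) : movPart g ⊤ = LinearMap.range (g - 1) :=
  Submodule.map_top _

theorem movPart_mono (g : V →ₗ[F] V) {W W' : Submodule F V} (h : W ≤ W') :
    movPart g W ≤ movPart g W' := Submodule.map_mono h

theorem fixPart_mono (g : V →ₗ[F] V) {W W' : Submodule F V} (h : W ≤ W') :
    fixPart g W ≤ fixPart g W' := inf_le_inf_right _ h

theorem movPart_inv (g : V →ₗ[F] V) (W : Submodule F V) (hW : ∀ x ∈ W, g x ∈ W) :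
    ∀ x ∈ movPart g W, g x ∈ movPart g W := by
  intro x hx
  obtain ⟨y, hy, rfl⟩ := (mem_movPart g W x).1 hx
  exact (mem_movPart g W _).2 ⟨g y, hW y hy, by rw [map_sub]⟩

theorem fixPart_inv (g : V →ₗ[F] V) (W : Submodule F V) :
    ∀ x ∈ fixPart g W, g x ∈ fixPart g W := by
  intro x hx
  rw [((mem_fixPart g W x).1 hx).2]
  exact hx

theorem polar_isom (Q : QuadraticForm F V) (g : V →ₗ[F] V) (hiso : ∀ x, Q (g x) = Q x)
    (x y : V) : polar Q (g x) (g y) = polar Q x y := by
  unfold polar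
  rw [← map_add, hiso, hiso, hiso]

/-- the fixed part is orthogonal to the moving part -/
theorem fix_perp_mov (Q : QuadraticForm F V) (g : V →ₗ[F] V) (hiso : ∀ x, Q (g x) = Q x)
    (W W' : Submodule F V) : Perp Q (fixPart g W) (movPart g W') := by
  intro u hu w hw
  obtain ⟨y, -, rfl⟩ := (mem_movPart g W' w).1 hw
  have hgu := ((mem_fixPart g W u).1 hu).2
  rw [polar_sub_right]
  nth_rewrite 1 [← hgu]
  rw [polar_isom Q g hiso, sub_self]

theorem pow_apply_of_fix (g : V →ₗ[F] V) {x y : V} (hy : g y - y = x) (hx : g x = x) (k : ℕ) :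
    (g ^ k) y = y + (k : F) • x := by
  induction k with
  | zero => simp
  | succ k ih =>
    rw [pow_succ', Module.End.mul_apply, ih, map_add, map_smul, hx, Nat.cast_succ, add_smul,
      one_smul, ← hy]
    abel

/-- the fixed part meets the moving part trivially -/
theorem fix_disjoint_mov (g : V →ₗ[F] V) (r : ℕ) (hgr : g ^ r = 1) (r0 : (r : F) ≠ 0)
    (W W' : Submodule F V) : Disjoint (fixPart g W) (movPart g W') := by
  rw [Submodule.disjoint_def]
  intro x hx hw
  have hgx := ((mem_fixPart g W x).1 hx).2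
  obtain ⟨y, -, hy⟩ := (mem_movPart g W' x).1 hw
  have h1 := pow_apply_of_fix g hy hgx r
  rw [hgr, Module.End.one_apply] at h1
  have h2 : (r : F) • x = 0 := by
    have h3 : y + (r : F) • x = y + 0 := by rw [add_zero]; exact h1.symm
    exact add_left_cancel h3
  exact (smul_eq_zero.1 h2).resolve_left r0

variable [FiniteDimensional F V]

/-- the dimension of the moving part -/
theorem finrank_movPart (g : V →ₗ[F] V) (W : Submodule F V) :
    finrank F (movPart g W) + finrank F (fixPart g W) = finrank F W := by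
  have h1 := LinearMap.finrank_range_add_finrank_ker ((g - 1).domRestrict W)
  rw [LinearMap.range_domRestrict, LinearMap.ker_domRestrict] at h1
  have h2 : finrank F ((LinearMap.ker (g - 1)).comap W.subtype) = finrank F (fixPart g W) := by
    have h3 := (Submodule.equivSubtypeMap W ((LinearMap.ker (g - 1)).comap W.subtype)).finrank_eq
    rw [Submodule.map_comap_subtype] at h3
    exact h3
  rw [h2] at h1
  exact h1

/-- an invariant subspace is the sum of its fixed part and its moving part -/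
theorem fix_sup_mov (g : V →ₗ[F] V) (r : ℕ) (hgr : g ^ r = 1) (r0 : (r : F) ≠ 0)
    (W : Submodule F V) (hW : ∀ x ∈ W, g x ∈ W) : fixPart g W ⊔ movPart g W = W := by
  apply Submodule.eq_of_le_of_finrank_le (sup_le (fixPart_le g W) (movPart_le g W hW))
  have h1 := Submodule.finrank_sup_add_finrank_inf_eq (fixPart g W) (movPart g W)
  rw [(fix_disjoint_mov g r hgr r0 W W).eq_bot, finrank_bot, add_zero] at h1
  have h2 := finrank_movPart g W
  omega

/-- a summand of an orthogonal decomposition of a nondegenerate subspace is nondegenerate -/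
theorem ndOn_of_sup {Q : QuadraticForm F V} {A B W : Submodule F V} (hAB : A ⊔ B = W)
    (hperp : Perp Q A B) (hW : NdOn Q W) : NdOn Q A := by
  intro v hv hvw
  apply hW v (hAB ▸ Submodule.mem_sup_left hv)
  intro w hw
  rw [← hAB] at hw
  obtain ⟨a, ha, b, hb, rfl⟩ := Submodule.mem_sup.1 hw
  rw [polar_add_left, hvw a ha, hperp.symm b hb v hv, add_zero]

theorem ndOn_fixPart (Q : QuadraticForm F V) (g : V →ₗ[F] V) (hiso : ∀ x, Q (g x) = Q x)
    (r : ℕ) (hgr : g ^ r = 1) (r0 : (r : F) ≠ 0) (W : Submodule F V) (hW : ∀ x ∈ W, g x ∈ W)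
    (hnd : NdOn Q W) : NdOn Q (fixPart g W) :=
  ndOn_of_sup (fix_sup_mov g r hgr r0 W hW) (fix_perp_mov Q g hiso W W) hnd

theorem ndOn_movPart (Q : QuadraticForm F V) (g : V →ₗ[F] V) (hiso : ∀ x, Q (g x) = Q x)
    (r : ℕ) (hgr : g ^ r = 1) (r0 : (r : F) ≠ 0) (W : Submodule F V) (hW : ∀ x ∈ W, g x ∈ W)
    (hnd : NdOn Q W) : NdOn Q (movPart g W) :=
  ndOn_of_sup (by rw [sup_comm]; exact fix_sup_mov g r hgr r0 W hW)
    (fix_perp_mov Q g hiso W W).symm hnd

theorem ndOn_top' (Q : QuadraticForm F V) (hQ : Nd Q) : NdOn Q ⊤ :=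
  fun v _ hv => hQ v (fun w => hv w Submodule.mem_top)

/-- the moving part has no fixed vectors -/
theorem movPart_fpf (g : V →ₗ[F] V) (r : ℕ) (hgr : g ^ r = 1) (r0 : (r : F) ≠ 0)
    (W : Submodule F V) : ∀ v ∈ movPart g W, g v = v → v = 0 := by
  intro v hv hgv
  have h1 : v ∈ fixPart g ⊤ ⊓ movPart g W :=
    Submodule.mem_inf.2 ⟨(mem_fixPart g ⊤ v).2 ⟨Submodule.mem_top, hgv⟩, hv⟩
  rw [(fix_disjoint_mov g r hgr r0 ⊤ W).eq_bot, Submodule.mem_bot] at h1
  exact h1

/-- a subspace without fixed vectors is its own moving part -/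
theorem movPart_eq_of_fpf (g : V →ₗ[F] V) (W : Submodule F V) (hW : ∀ x ∈ W, g x ∈ W)
    (hfix : ∀ v ∈ W, g v = v → v = 0) : movPart g W = W := by
  apply Submodule.eq_of_le_of_finrank_le (movPart_le g W hW)
  have h1 := finrank_movPart g W
  have h2 : fixPart g W = ⊥ := by
    rw [eq_bot_iff]
    intro x hx
    obtain ⟨h3, h4⟩ := (mem_fixPart g W x).1 hx
    rw [Submodule.mem_bot]
    exact hfix x h3 h4
  rw [h2, finrank_bot, add_zero] at h1
  omega

end parts

section tau

/-- the sign of a nondegenerate invariant subspace of dimension `c * b` without fixed vectors -/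
def tau (i b : ℕ) : ℤ := if Even i then (-1) ^ b else 1

theorem tau_pm (i b : ℕ) : tau i b = 1 ∨ tau i b = -1 := by
  unfold tau
  split_ifs
  · rcases Nat.even_or_odd b with h | h
    · exact Or.inl h.neg_one_pow
    · exact Or.inr h.neg_one_pow
  · exact Or.inl rfl

theorem tau_add (i a b : ℕ) : tau i (a + b) = tau i a * tau i b := by
  unfold tau
  split_ifs
  · rw [pow_add]
  · rw [mul_one]

theorem tau_zero (i : ℕ) : tau i 0 = 1 := by
  unfold tau
  split_ifs <;> simp

theorem tau_mul_self (i b : ℕ) : tau i b * tau i b = 1 := by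
  rcases tau_pm i b with h | h <;> rw [h] <;> norm_num

end tau

section blocks
variable {F : Type u} [Field F] [Fintype F] {V : Type u} [AddCommGroup V] [Module F V]
  [FiniteDimensional F V]

theorem even_c (i c : ℕ) (hc : c = if Even i then i else 2 * i) : Even c := by
  rw [hc]
  split_ifs with h
  · exact h
  · exact even_two_mul i

/-- **the sign of an invariant nondegenerate subspace without fixed vectors** -/
theorem sign_fpf {p : ℕ} [hp : Fact p.Prime] [CharP F p] (Q : QuadraticForm F V)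
    (g gi : V →ₗ[F] V) (hiso : ∀ x, Q (g x) = Q x) (gi_g : ∀ x, gi (g x) = x)
    (g_gi : ∀ x, g (gi x) = x) (r : ℕ) [hr : Fact r.Prime] (hr2 : r ≠ 2) (hrp : r ≠ p)
    (hrq : ¬ r ∣ Fintype.card F) (hgr : g ^ r = 1) (i c : ℕ)
    (hi : i = orderOf ((Fintype.card F : ℕ) : ZMod r)) (hc : c = if Even i then i else 2 * i)
    (W : Submodule F V) (hW : ∀ x ∈ W, g x ∈ W) (hnd : NdOn Q W)
    (hfix : ∀ v ∈ W, g v = v → v = 0) :
    ∃ b k : ℕ, finrank F W = c * b ∧ finrank F W = 2 * k ∧ HasSign (res Q W) k (tau i b) := by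
  have hr0 : 0 < r := hr.out.pos
  have hWi : ∀ x ∈ W, gi x ∈ W := gi_mem_of_inv g gi gi_g r hr0 hgr W hW
  have hisoB : ∀ x y, polarBilin Q (g x) (g y) = polarBilin Q x y := by
    intro x y
    rw [polarBilin_apply_apply, polarBilin_apply_apply]
    exact polar_isom Q g hiso x y
  have h1 := dvd_finrank_sub_fix (polarBilin Q) (symm_polarBilin Q) g gi hisoB g_gi r hr2 hrq
    hgr i c hi hc W hW hWi (fun w hw hwu => hnd w hw (fun u hu => by
      have := hwu u hu
      rwa [polarBilin_apply_apply, polar_comm] at this))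
  have h2 : (W ⊓ LinearMap.ker (g - 1) : Submodule F V) = ⊥ := by
    rw [eq_bot_iff]
    intro x hx
    obtain ⟨h3, h4⟩ := (mem_fixPart g W x).1 hx
    rw [Submodule.mem_bot]
    exact hfix x h3 h4
  rw [h2, finrank_bot, Nat.sub_zero] at h1
  obtain ⟨b, hb⟩ := h1
  obtain ⟨c', hc'⟩ := even_c i c hc
  obtain ⟨k, hk⟩ : ∃ k, k = c' * b := ⟨_, rfl⟩
  have hWk : finrank F W = 2 * k := by rw [hb, hc', hk]; ring
  refine ⟨b, k, hb, hWk, ?_⟩
  obtain ⟨h3, h4⟩ := sign_sub_fpf (p := p) Q g gi hiso gi_g g_gi r hr2 hrp hgr i hi W hW hWi hnd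
    hfix k hWk
  unfold tau
  by_cases hev : Even i
  · rw [if_pos hev]
    obtain ⟨s, hs, hsign⟩ := h3 hev
    have hci : c = i := by rw [hc, if_pos hev]
    have hi0 : 0 < i := by
      rw [hi]
      exact order_pos' r hrq
    have hsb : s = b := by
      have : i * s = i * b := by rw [← hs, ← hWk, hb, hci]
      exact Nat.eq_of_mul_eq_mul_left hi0 this
    rw [← hsb]
    exact hsign
  · rw [if_neg hev]
    exact h4 hev

/-- **invariant nondegenerate subspaces of the moving part**, of every dimension divisible by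
`c`, over all finite fields -/
theorem exists_inv_nd_sub_all {p f₀ : ℕ} [hp : Fact p.Prime] [CharP F p]
    (hq : Fintype.card F = p ^ f₀) (Q : QuadraticForm F V) (hQ : Nd Q)
    (g gi : V →ₗ[F] V) (hiso : ∀ x, Q (g x) = Q x) (gi_g : ∀ x, gi (g x) = x)
    (g_gi : ∀ x, g (gi x) = x) (r : ℕ) [hr : Fact r.Prime] (hr2 : r ≠ 2) (hrp : r ≠ p)
    (hgr : g ^ r = 1) (i c : ℕ)
    (hi : i = orderOf ((Fintype.card F : ℕ) : ZMod r)) (hc : c = if Even i then i else 2 * i)
    (b : ℕ) (hb : c * b ≤ finrank F (movPart g ⊤)) :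
    ∃ U : Submodule F V, U ≤ movPart g ⊤ ∧ finrank F U = c * b ∧ (∀ x ∈ U, g x ∈ U) ∧
      NdOn Q U := by
  have hrq : ¬ r ∣ Fintype.card F := by
    rw [hq]
    intro h
    exact hrp ((Nat.prime_dvd_prime_iff_eq hr.out hp.out).mp (hr.out.dvd_of_dvd_pow h))
  have r0 : (r : F) ≠ 0 := by
    intro h
    have h1 := (CharP.cast_eq_zero_iff F p r).mp h
    exact hrp ((Nat.prime_dvd_prime_iff_eq hp.out hr.out).mp h1).symm
  have rodd : Odd r := hr.out.odd_of_ne_two hr2
  by_cases h2 : (2 : F) = 0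
  · -- characteristic two: the polar form is alternating
    have hA : (polarBilin Q).IsAlt := by
      intro x
      rw [polarBilin_apply_apply, polar_self, nsmul_eq_mul, Nat.cast_ofNat, h2, zero_mul]
    have hB : (polarBilin Q).Nondegenerate := by
      constructor
      · intro x hx
        apply hQ x
        intro w
        have := hx w
        rwa [polarBilin_apply_apply, polar_comm] at this
      · intro y hy
        apply hQ y
        intro w
        have := hy w
        rwa [polarBilin_apply_apply] at this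
    have hyB : IsIsom (polarBilin Q) g := by
      intro x y
      rw [polarBilin_apply_apply, polarBilin_apply_apply]
      exact polar_isom Q g hiso x y
    have hNnd : NdOn Q (movPart g ⊤) :=
      ndOn_movPart Q g hiso r hgr r0 ⊤ (fun _ _ => Submodule.mem_top) (ndOn_top' Q hQ)
    have hN : ND (polarBilin Q) (movPart g ⊤) := by
      rw [nd_iff (polarBilin Q) hA]
      intro u hu huv
      apply hNnd u hu
      intro w hw
      have := huv w hw
      rwa [polarBilin_apply_apply, polar_comm] at this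
    have hNi : Elus.Inv g (movPart g ⊤) :=
      movPart_inv g ⊤ (fun _ _ => Submodule.mem_top)
    have hNC : movPart g ⊤ ⊓ LinearMap.ker (g - 1) = ⊥ := by
      rw [eq_bot_iff]
      intro x hx
      obtain ⟨h3, h4⟩ := (mem_fixPart g _ x).1 hx
      rw [Submodule.mem_bot]
      exact movPart_fpf g r hgr r0 ⊤ x h3 h4
    obtain ⟨A', hA'N, hA'nd, hA'inv, hA'd⟩ := grow_blocks (polarBilin Q) hq hA hB r hr2 hrp r0 hrq
      hyB hgr i c hi hc hN hNi hNC b hb
    refine ⟨A', hA'N, hA'd, hA'inv, ?_⟩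
    rw [nd_iff (polarBilin Q) hA] at hA'nd
    intro v hv hvw
    apply hA'nd v hv
    intro w hw
    have := hvw w hw
    rwa [polarBilin_apply_apply, polar_comm]
  · obtain ⟨D, hD⟩ : ∃ D : OData F V, D = mkOData Q hQ g gi hiso gi_g g_gi r hgr rodd r0 h2 :=
      ⟨_, rfl⟩
    have hDr : D.r = r := by rw [hD]; rfl
    have hDg : D.g = g := by rw [hD]; rfl
    have hDW : D.W = movPart g ⊤ := by rw [hD, movPart_top]; rfl
    have : Fact D.r.Prime := hDr ▸ hr
    obtain ⟨U, hUW, hUd, hUg, -, hUnd⟩ := exists_inv_nd_sub D hq (hDr ▸ hr2)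
      (hDr ▸ hrp) (hDr ▸ hrq) i c (hDr ▸ hi) hc b
      (by rw [hDW]; exact hb)
    rw [hDW] at hUW
    rw [hDg] at hUg
    refine ⟨U, hUW, hUd, hUg, ?_⟩
    intro v hv hvw
    apply hUnd v hv
    intro w hw
    have := hvw w hw
    rw [hD]
    show polarBilin Q w v = 0
    rwa [polarBilin_apply_apply]

end blocks

end Cfsg.Agent.Lib.Helper5.ONd
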