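import Mathlib
import Cfsg.Agent.Lib.Helper5.ONd.Semi

set_option autoImplicit false

/-!
# The arithmetic of the criterion for elements of odd prime order
-/

namespace Cfsg.Agent.Lib.Helper5.ONd

/-- the criterion for elements of odd prime order `r ≠ p` -/
def Gsemi (ε δ : ℤ) (i c d m : ℕ) : Prop :=
  ((2 * d) % c = 0 ∧ (tau i (2 * d / c) ≠ ε ∨ (m % c = 0 ∧ tau i (m / c) = δ))) ∨
  (0 < (2 * d) % c ∧ c ≤ m ∧ ((0 < m % c ∧ m % c < (2 * d) % c) ∨
    (m % c = (2 * d) % c ∧ tau i (2 * d / c) * tau i (m / c) = ε * δ) ∨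
    (m % c = 0 ∧ tau i (m / c) = δ)))

theorem tau_pred (i b : ℕ) (hb : 1 ≤ b) : tau i b = tau i (b - 1) * tau i 1 := by
  rw [← tau_add, Nat.sub_add_cancel hb]

theorem tau_pred_mul (i a b : ℕ) (ha : 1 ≤ a) (hb : 1 ≤ b) :
    tau i (a - 1) * tau i (b - 1) = tau i a * tau i b := by
  rw [tau_pred i a ha, tau_pred i b hb]
  have := tau_mul_self i 1
  calc tau i (a - 1) * tau i (b - 1) = tau i (a - 1) * tau i (b - 1) * (tau i 1 * tau i 1) := by
        rw [this, mul_one]
    _ = _ := by ring

/-- the arithmetic of sufficiency -/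
theorem arith_suff (ε δ : ℤ) (hε : ε = 1 ∨ ε = -1) (hδ : δ = 1 ∨ δ = -1) (i c d m : ℕ)
    (hc0 : 0 < c) (hm : 2 ≤ m) (hme : Even m) (hmn : m + 2 ≤ 2 * d) (hce : Even c)
    (hG : Gsemi ε δ i c d m) (a n : ℕ) (han : 2 * d = c * a + 2 * n)
    (hn0 : n = 0 → ε * tau i a = 1) :
    ∃ b j : ℕ, m = c * b + 2 * j ∧ b ≤ a ∧ j ≤ n ∧ (j = 0 → tau i b = δ) ∧
      (j = n → ε * tau i a * tau i b = δ) := by
  obtain ⟨A, hA⟩ : ∃ A, A = 2 * d / c := ⟨_, rfl⟩
  obtain ⟨M, hM⟩ : ∃ M, M = m / c := ⟨_, rfl⟩
  obtain ⟨k₀, hk₀⟩ : ∃ k₀, k₀ = (2 * d) % c := ⟨_, rfl⟩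
  obtain ⟨ℓ, hℓ⟩ : ∃ ℓ, ℓ = m % c := ⟨_, rfl⟩
  have hdA : 2 * d = c * A + k₀ := by rw [hA, hk₀]; exact (Nat.div_add_mod _ _).symm
  have hmM : m = c * M + ℓ := by rw [hM, hℓ]; exact (Nat.div_add_mod _ _).symm
  have hk₀c : k₀ < c := by rw [hk₀]; exact Nat.mod_lt _ hc0
  have hℓc : ℓ < c := by rw [hℓ]; exact Nat.mod_lt _ hc0
  unfold Gsemi at hG
  rw [← hA, ← hM, ← hk₀, ← hℓ] at hG
  obtain ⟨c', hc'⟩ := hce
  obtain ⟨m', hm'⟩ := hme
  have hεε : ε * ε = 1 := by rcases hε with h | h <;> rw [h] <;> norm_num
  -- `a ≤ A`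
  have haA : a ≤ A := by
    by_contra h
    push Not at h
    have : c * (A + 1) ≤ c * a := Nat.mul_le_mul_left c h
    rw [Nat.mul_add, Nat.mul_one] at this
    omega
  -- the generic choice `b = a` when `c * a < m` or (`c * a ≤ m` with positive remainder)
  have choice_a : c * a ≤ m → (c * a = m → tau i a = δ) → ∃ b j : ℕ, m = c * b + 2 * j ∧ b ≤ a ∧
      j ≤ n ∧ (j = 0 → tau i b = δ) ∧ (j = n → ε * tau i a * tau i b = δ) := by
    intro h1 h2
    obtain ⟨j, hj⟩ : ∃ j, m = c * a + 2 * j := by
      have hev : Even (m - c * a) := by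
        rw [hm', hc']
        exact ⟨m' - c' * a, by
          have : (c' + c') * a = c' * a + c' * a := by ring
          have h3 : c' * a + c' * a ≤ m' + m' := by rw [← this, ← hc', ← hm']; exact h1
          omega⟩
      obtain ⟨j, hj⟩ := hev
      exact ⟨j, by omega⟩
    refine ⟨a, j, hj, le_rfl, by omega, ?_, ?_⟩
    · intro hj0
      exact h2 (by omega)
    · intro hjn
      omega
  -- the choice `b = M` with remainder `ℓ`
  have choice_M : M ≤ a → (ℓ = 0 → tau i M = δ) → (ℓ = 2 * n → ε * tau i a * tau i M = δ) →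
      ℓ ≤ 2 * n → ∃ b j : ℕ, m = c * b + 2 * j ∧ b ≤ a ∧
      j ≤ n ∧ (j = 0 → tau i b = δ) ∧ (j = n → ε * tau i a * tau i b = δ) := by
    intro h1 h2 h3 h4
    obtain ⟨j, hj⟩ : ∃ j, ℓ = 2 * j := by
      have hev : Even ℓ := by
        have h5 : ℓ = m - c * M := by omega
        rw [h5, hm', hc']
        have h6 : (c' + c') * M = c' * M + c' * M := by ring
        have h7 : c' * M + c' * M ≤ m' + m' := by
          rw [← h6, ← hc', ← hm']
          omega
        exact ⟨m' - c' * M, by omega⟩
      obtain ⟨j, hj⟩ := hev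
      exact ⟨j, by omega⟩
    refine ⟨M, j, by omega, h1, by omega, ?_, ?_⟩
    · intro hj0
      exact h2 (by omega)
    · intro hjn
      exact h3 (by omega)
  have hcaM : a ≤ M → c * a ≤ m := by
    intro h
    have : c * a ≤ c * M := Nat.mul_le_mul_left c h
    omega
  have hcaM' : a < M → c * a < m := by
    intro h
    have : c * (a + 1) ≤ c * M := Nat.mul_le_mul_left c h
    rw [Nat.mul_add, Nat.mul_one] at this
    omega
  have h2n : 2 * n = c * (A - a) + k₀ := by
    have : c * A = c * a + c * (A - a) := by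
      rw [← Nat.mul_add, Nat.add_sub_cancel' haA]
    omega
  rcases hG with ⟨hk0, hG⟩ | ⟨hk0, hcm, hG⟩
  · rcases hG with hG | ⟨hℓ0, hτM⟩
    · -- `tau A ≠ ε`, so `a < A`
      have haA' : a < A := by
        rcases Nat.lt_or_ge a A with h | h
        · exact h
        · exfalso
          have haeq : a = A := le_antisymm haA h
          have hn : n = 0 := by
            rw [haeq, Nat.sub_self, Nat.mul_zero, hk0] at h2n
            omega
          have h5 := hn0 hn
          rw [haeq] at h5
          apply hG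
          rcases hε with h' | h' <;> rcases tau_pm i A with h'' | h'' <;> rw [h', h''] at h5 ⊢ <;>
            first | rfl | (exfalso; revert h5; norm_num)
      have hcn : c ≤ 2 * n := by
        have : c * 1 ≤ c * (A - a) := Nat.mul_le_mul_left c (by omega)
        omega
      rcases Nat.eq_zero_or_pos ℓ with hℓ0 | hℓ0
      · rcases Nat.lt_or_ge a M with h | h
        · exact choice_a (hcaM' h).le (fun h' => absurd h' (hcaM' h).ne)
        · by_cases hτ : tau i M = δ
          · exact choice_M h (fun _ => hτ) (fun h' => by omega) (by omega)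
          · -- `b = M - 1`
            have hM1 : 1 ≤ M := by
              rcases Nat.eq_zero_or_pos M with h' | h'
              · rw [h', Nat.mul_zero] at hmM
                omega
              · exact h'
            have hcM : c * M = c * (M - 1) + c := by
              rw [← Nat.mul_succ, Nat.succ_eq_add_one, Nat.sub_add_cancel hM1]
            refine ⟨M - 1, c', by omega, by omega, by omega, ?_, ?_⟩
            · intro h'
              omega
            · intro h'
              have ha1 : a = A - 1 := by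
                have h6 : c * (A - a) = c * 1 := by omega
                have := Nat.eq_of_mul_eq_mul_left hc0 h6
                omega
              have hA1 : 1 ≤ A := by omega
              rw [ha1, mul_assoc, tau_pred_mul i A M hA1 hM1]
              have h7 : tau i A = -ε := by
                rcases hε with h'' | h'' <;> rcases tau_pm i A with h3 | h3 <;>
                  rw [h''] at hG ⊢ <;> rw [h3] at hG ⊢ <;> first | rfl | exact absurd rfl hG
              have h8 : tau i M = -δ := by
                rcases hδ with h'' | h'' <;> rcases tau_pm i M with h3 | h3 <;>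
                  rw [h''] at hτ ⊢ <;> rw [h3] at hτ ⊢ <;> first | rfl | exact absurd rfl hτ
              rw [h7, h8]
              calc ε * (-ε * -δ) = ε * ε * δ := by ring
                _ = δ := by rw [hεε, one_mul]
      · rcases le_or_gt a M with h | h
        · have h9 : c * a ≤ c * M := Nat.mul_le_mul_left c h
          exact choice_a (hcaM h) (fun h' => by omega)
        · exact choice_M h.le (fun h' => by omega) (fun h' => by omega) (by omega)
    · rcases Nat.lt_or_ge a M with h | h
      · exact choice_a (hcaM' h).le (fun h' => absurd h' (hcaM' h).ne)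
      · refine choice_M h (fun _ => hτM) (fun h' => ?_) (by omega)
        have hn : n = 0 := by omega
        have h5 := hn0 hn
        rw [h5, one_mul]
        exact hτM
  · rcases hG with ⟨h1, h2⟩ | ⟨h1, h2⟩ | ⟨h1, h2⟩
    · rcases le_or_gt a M with h | h
      · have h9 : c * a ≤ c * M := Nat.mul_le_mul_left c h
        exact choice_a (hcaM h) (fun h' => by omega)
      · exact choice_M h.le (fun h' => by omega) (fun h' => by omega) (by omega)
    · rcases le_or_gt a M with h | h
      · have h9 : c * a ≤ c * M := Nat.mul_le_mul_left c h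
        exact choice_a (hcaM h) (fun h' => by omega)
      · refine choice_M h.le (fun h' => by omega) (fun h' => ?_) (by omega)
        have haeq : a = A := by
          have h6 : c * (A - a) = 0 := by omega
          rcases Nat.mul_eq_zero.1 h6 with h7 | h7
          · omega
          · omega
        rw [haeq, mul_assoc, h2, ← mul_assoc, hεε, one_mul]
    · rcases Nat.lt_or_ge a M with h | h
      · exact choice_a (hcaM' h).le (fun h' => absurd h' (hcaM' h).ne)
      · exact choice_M h (fun _ => h2) (fun h' => by omega) (by omega)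

end Cfsg.Agent.Lib.Helper5.ONd

namespace Cfsg.Agent.Lib.Helper5.ONd

theorem tau_of_odd {i : ℕ} (h : ¬ Even i) (b : ℕ) : tau i b = 1 := by
  unfold tau
  rw [if_neg h]

theorem tau_of_even {i : ℕ} (h : Even i) (b : ℕ) : tau i b = (-1) ^ b := by
  unfold tau
  rw [if_pos h]

theorem tau_eq_one_iff {i : ℕ} (h : Even i) (b : ℕ) : tau i b = 1 ↔ Even b := by
  rw [tau_of_even h]
  exact neg_one_pow_eq_one_iff_even (by norm_num)

theorem tau_eq_neg_one_iff {i : ℕ} (h : Even i) (b : ℕ) : tau i b = -1 ↔ Odd b := by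
  rw [tau_of_even h]
  constructor
  · intro hb
    rw [← Nat.not_even_iff_odd]
    intro he
    rw [he.neg_one_pow] at hb
    norm_num at hb
  · intro hb
    exact hb.neg_one_pow

theorem tau_mul_eq_one_iff {i : ℕ} (h : Even i) (a b : ℕ) :
    tau i a * tau i b = 1 ↔ Even (a + b) := by
  rw [← tau_add, tau_eq_one_iff h]

theorem tau_mul_eq_neg_one_iff {i : ℕ} (h : Even i) (a b : ℕ) :
    tau i a * tau i b = -1 ↔ Odd (a + b) := by
  rw [← tau_add, tau_eq_neg_one_iff h]

end Cfsg.Agent.Lib.Helper5.ONd
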