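import Mathlib
import Cfsg.Agent.Lib.Helper5.ONd.Semi

set_option autoImplicit false

/-!
# Isometries of odd prime order `r ≠ p`: the invariant nondegenerate subspaces of given dimension
and sign, over all finite fields
-/

namespace Cfsg.Agent.Lib.Helper5.ONd

open QuadraticMap Module Cfsg
open Cfsg.Agent.Lib.Helper5.QuadTwo Cfsg.Agent.Lib.Helper5.QuadSign
open Cfsg.Agent.Lib.Helper5.OElus Cfsg.Agent.Lib.Helper5.OrthPrime

universe u

section suff
variable {F : Type u} [Field F] [Fintype F] {V : Type u} [AddCommGroup V] [Module F V]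
  [FiniteDimensional F V]

omit [FiniteDimensional F V] in
theorem hasSign_top_iff' (Q : QuadraticForm F V) (k : ℕ) (s : ℤ) :
    HasSign (res Q ⊤) k s ↔ HasSign Q k s :=
  hasSign_congr (Submodule.topEquiv (R := F) (M := V)).toEquiv (res Q ⊤) Q (fun _ => rfl) k s

/-- **the fixed and moving parts of an invariant nondegenerate subspace**: dimensions and signs -/
theorem sign_parts {p : ℕ} [hp : Fact p.Prime] [CharP F p] (Q : QuadraticForm F V)
    (g gi : V →ₗ[F] V) (hiso : ∀ x, Q (g x) = Q x) (gi_g : ∀ x, gi (g x) = x)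
    (g_gi : ∀ x, g (gi x) = x) (r : ℕ) [hr : Fact r.Prime] (hr2 : r ≠ 2) (hrp : r ≠ p)
    (hrq : ¬ r ∣ Fintype.card F) (hgr : g ^ r = 1) (i c : ℕ)
    (hi : i = orderOf ((Fintype.card F : ℕ) : ZMod r)) (hc : c = if Even i then i else 2 * i)
    (W : Submodule F V) (hW : ∀ x ∈ W, g x ∈ W) (hnd : NdOn Q W) (k : ℕ)
    (hk : finrank F W = 2 * k) (δ : ℤ) (hδ : HasSign (res Q W) k δ) :
    ∃ b n : ℕ, finrank F (movPart g W) = c * b ∧ finrank F (fixPart g W) = 2 * n ∧
      2 * k = c * b + 2 * n ∧ HasSign (res Q (fixPart g W)) n (δ * tau i b) := by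
  have r0 : (r : F) ≠ 0 := by
    intro h
    have h1 := (CharP.cast_eq_zero_iff F p r).mp h
    exact hrp ((Nat.prime_dvd_prime_iff_eq hp.out hr.out).mp h1).symm
  have hMnd := ndOn_movPart Q g hiso r hgr r0 W hW hnd
  have hCnd := ndOn_fixPart Q g hiso r hgr r0 W hW hnd
  obtain ⟨b, k', hb, hk', hs⟩ := sign_fpf (p := p) Q g gi hiso gi_g g_gi r hr2 hrp hrq hgr i c hi
    hc (movPart g W) (movPart_inv g W hW) hMnd (movPart_fpf g r hgr r0 W)
  have hdim := finrank_movPart g W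
  obtain ⟨n, hn⟩ : ∃ n, finrank F (fixPart g W) = 2 * n := ⟨k - k', by omega⟩
  have hperp : Perp Q (movPart g W) (fixPart g W) := (fix_perp_mov Q g hiso W W).symm
  have hsup : movPart g W ⊔ fixPart g W = W := by
    rw [sup_comm]
    exact fix_sup_mov g r hgr r0 W hW
  have hkk : k' + n = k := by omega
  have h3 : HasSign (res Q (movPart g W ⊔ fixPart g W)) (k' + n) δ := by
    rw [hsup, hkk]
    exact hδ
  have h4 := hasSign_of_sup hperp hMnd hCnd k' n hk' hn (tau i b) δ hs h3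
  rw [mul_comm] at h4
  exact ⟨b, n, hb, hn, by omega, h4⟩

/-- **invariant nondegenerate subspaces of given dimension and sign**: the criterion -/
theorem inv_typed_iff {p f₀ : ℕ} [hp : Fact p.Prime] [CharP F p] (hq : Fintype.card F = p ^ f₀)
    (Q : QuadraticForm F V) (hQ : Nd Q) (d : ℕ) (hd : finrank F V = 2 * d) (ε : ℤ)
    (hε : HasSign Q d ε)
    (g gi : V →ₗ[F] V) (hiso : ∀ x, Q (g x) = Q x) (gi_g : ∀ x, gi (g x) = x)
    (g_gi : ∀ x, g (gi x) = x) (r : ℕ) [hr : Fact r.Prime] (hr2 : r ≠ 2) (hrp : r ≠ p)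
    (hgr : g ^ r = 1) (i c : ℕ)
    (hi : i = orderOf ((Fintype.card F : ℕ) : ZMod r)) (hc : c = if Even i then i else 2 * i)
    (k : ℕ) (δ : ℤ) (hδ1 : δ = 1 ∨ δ = -1) :
    ∃ a n : ℕ, finrank F (movPart g ⊤) = c * a ∧ finrank F (fixPart g ⊤) = 2 * n ∧
      2 * d = c * a + 2 * n ∧ (n = 0 → ε * tau i a = 1) ∧
      ((∃ W : Submodule F V, finrank F W = 2 * k ∧ NdOn Q W ∧ HasSign (res Q W) k δ ∧
        ∀ x ∈ W, g x ∈ W) ↔
      ∃ b j : ℕ, 2 * k = c * b + 2 * j ∧ b ≤ a ∧ j ≤ n ∧ (j = 0 → tau i b = δ) ∧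
        (j = n → ε * tau i a * tau i b = δ)) := by
  have hrq : ¬ r ∣ Fintype.card F := by
    rw [hq]
    intro h
    exact hrp ((Nat.prime_dvd_prime_iff_eq hr.out hp.out).mp (hr.out.dvd_of_dvd_pow h))
  have r0 : (r : F) ≠ 0 := by
    intro h
    have h1 := (CharP.cast_eq_zero_iff F p r).mp h
    exact hrp ((Nat.prime_dvd_prime_iff_eq hp.out hr.out).mp h1).symm
  have hi0 : 0 < i := by
    rw [hi]
    exact order_pos' r hrq
  have hc0 : 0 < c := by
    rw [hc]
    split_ifs <;> omega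
  have htop : ∀ x ∈ (⊤ : Submodule F V), g x ∈ (⊤ : Submodule F V) :=
    fun _ _ => Submodule.mem_top
  obtain ⟨a, n, ha, hn, hdan, hsC⟩ := sign_parts (p := p) Q g gi hiso gi_g g_gi r hr2 hrp hrq hgr
    i c hi hc ⊤ htop (ndOn_top' Q hQ) d (by rw [finrank_top]; exact hd) ε
    ((hasSign_top_iff' Q d ε).2 hε)
  have hCnd := ndOn_fixPart Q g hiso r hgr r0 ⊤ htop (ndOn_top' Q hQ)
  have hMnd := ndOn_movPart Q g hiso r hgr r0 ⊤ htop (ndOn_top' Q hQ)
  refine ⟨a, n, ha, hn, hdan, ?_, ?_, ?_⟩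
  · intro hn0
    rw [hn0] at hsC hn
    exact hsC.unique (hasSign_of_finrank_zero (res Q (fixPart g ⊤)) (by rw [hn]))
  · -- necessity
    rintro ⟨W, hWd, hWnd, hWs, hWg⟩
    obtain ⟨b, j, hb, hj, hkbj, hsj⟩ := sign_parts (p := p) Q g gi hiso gi_g g_gi r hr2 hrp hrq
      hgr i c hi hc W hWg hWnd k hWd δ hWs
    have hba : b ≤ a := by
      have h1 := Submodule.finrank_mono (movPart_mono g (le_top : W ≤ ⊤))
      rw [hb, ha] at h1
      exact Nat.le_of_mul_le_mul_left h1 hc0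
    have hle : fixPart g W ≤ fixPart g ⊤ := fixPart_mono g le_top
    have hjn : j ≤ n := by
      have h1 := Submodule.finrank_mono hle
      rw [hj, hn] at h1
      omega
    refine ⟨b, j, hkbj, hba, hjn, ?_, ?_⟩
    · intro hj0
      rw [hj0] at hsj hj
      have h1 := hsj.unique (hasSign_of_finrank_zero (res Q (fixPart g W)) (by rw [hj]))
      rcases tau_pm i b with h | h <;> rcases hδ1 with h' | h' <;> rw [h, h'] at h1 ⊢ <;>
        first | rfl | (exfalso; revert h1; norm_num)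
    · intro hjn'
      have heq : fixPart g W = fixPart g ⊤ := by
        apply Submodule.eq_of_le_of_finrank_eq hle
        rw [hj, hn, hjn']
      rw [heq, hjn'] at hsj
      have h1 := hsj.unique hsC
      rcases tau_pm i b with h | h <;> rcases tau_pm i a with h'' | h'' <;>
        rcases hδ1 with h' | h' <;> rw [h, h'] at h1 <;> rw [h, h', h''] <;> rw [h''] at h1 <;>
        linarith
  · -- sufficiency
    rintro ⟨b, j, hkbj, hba, hjn, h0, h1⟩
    obtain ⟨U', hU'M, hU'd, hU'g, hU'nd⟩ := exists_inv_nd_sub_all hq Q hQ g gi hiso gi_g g_gi r hr2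
      hrp hgr i c hi hc b (by rw [ha]; exact Nat.mul_le_mul_left c hba)
    have hU'fix : ∀ v ∈ U', g v = v → v = 0 :=
      fun v hv => movPart_fpf g r hgr r0 ⊤ v (hU'M hv)
    obtain ⟨b', k', hb', hk', hs'⟩ := sign_fpf (p := p) Q g gi hiso gi_g g_gi r hr2 hrp hrq hgr i
      c hi hc U' hU'g hU'nd hU'fix
    have hbb : b' = b := by
      rw [hU'd] at hb'
      exact (Nat.eq_of_mul_eq_mul_left hc0 hb').symm
    rw [hbb] at hs'
    have hkk : k = k' + j := by omega
    have hperp : Perp Q (fixPart g ⊤) U' := (fix_perp_mov Q g hiso ⊤ ⊤).mono le_rfl hU'M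
    rcases Nat.eq_zero_or_pos j with hj0 | hj0
    · refine ⟨U', by rw [hk']; omega, hU'nd, ?_, hU'g⟩
      rw [show k = k' by omega, ← h0 hj0]
      exact hs'
    rcases Nat.lt_or_ge j n with hjlt | hjge
    · obtain ⟨W₀, hW₀C, hW₀d, hW₀nd, hW₀s⟩ := exists_typed_sup_all Q (fixPart g ⊤) U' hperp hCnd
        hU'nd n k' hn hk' j hj0 hjlt δ hδ1
      refine ⟨W₀ ⊔ U', by rw [hW₀d]; omega, hW₀nd, ?_, ?_⟩
      · rw [hkk, add_comm]
        exact hW₀s
      · intro x hx
        obtain ⟨w, hw, u, hu, rfl⟩ := Submodule.mem_sup.1 hx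
        rw [map_add, ((mem_fixPart g ⊤ w).1 (hW₀C hw)).2]
        exact Submodule.add_mem_sup hw (hU'g u hu)
    · have hjn' : j = n := le_antisymm hjn hjge
      have hs := hasSign_sup hperp hCnd n k' hn hk' (ε * tau i a) (tau i b) hsC hs'
      refine ⟨fixPart g ⊤ ⊔ U', ?_, ndOn_sup hperp hCnd hU'nd, ?_, ?_⟩
      · rw [finrank_sup_of_perp hperp hCnd, hn, hk']
        omega
      · rw [hkk, add_comm, hjn', ← h1 hjn']
        exact hs
      · intro x hx
        obtain ⟨w, hw, u, hu, rfl⟩ := Submodule.mem_sup.1 hx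
        rw [map_add, ((mem_fixPart g ⊤ w).1 hw).2]
        exact Submodule.add_mem_sup hw (hU'g u hu)

end suff

end Cfsg.Agent.Lib.Helper5.ONd
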