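import Mathlib
import Cfsg.Agent.Lib.Helper5.ONd.Suff
import Cfsg.Agent.Lib.Helper5.OElus.Corner

set_option autoImplicit false

/-!
# Counting typed subspaces over all finite fields: divisibility by `r` forces `c ≤ dim`
-/

namespace Cfsg.Agent.Lib.Helper5.ONd

open QuadraticMap Module Cfsg
open Cfsg.Agent.Lib.Helper5.QuadTwo Cfsg.Agent.Lib.Helper5.QuadSign
open Cfsg.Agent.Lib.Helper5.OElus Cfsg.Agent.Lib.Helper5.OrthPrime
open Cfsg.Agent.Lib.Helper2 Cfsg.Agent.Lib.Helper2.SpImp

universe u

section grp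
variable {F : Type u} [Field F] {V : Type u} [AddCommGroup V] [Module F V]

/-- the isometry group of a quadratic form, as a group of linear automorphisms -/
def qIsoGroup (Q : QuadraticForm F V) : Subgroup (V ≃ₗ[F] V) where
  carrier := {g | ∀ x, Q (g x) = Q x}
  mul_mem' := by
    intro g h hg hh x
    show Q (g (h x)) = Q x
    rw [hg, hh]
  one_mem' := fun x => rfl
  inv_mem' := by
    intro g hg x
    have h := hg (g.symm x)
    rw [g.apply_symm_apply] at h
    exact h.symm

variable [Fintype F] [FiniteDimensional F V]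

/-- the number of typed subspaces divides the order of the isometry group -/
theorem card_typed_dvd_all (Q : QuadraticForm F V) (hQ : Nd Q) (k : ℕ)
    (plus : Prop) (W₀ : Submodule F V) (hW₀ : Typed Q k plus W₀) :
    Nat.card {W : Submodule F V // Typed Q k plus W} ∣ Nat.card (qIsoGroup Q) := by
  classical
  let _ := SpTi.subAction (F := F) (V := V)
  have hQ' : (polarBilin Q).Nondegenerate := by
    constructor
    · intro x hx
      apply hQ x
      intro w
      have := hx w
      rwa [polarBilin_apply_apply, polar_comm] at this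
    · intro y hy
      apply hQ y
      intro w
      have := hy w
      rwa [polarBilin_apply_apply] at this
  have hset : MulAction.orbit (qIsoGroup Q) W₀ =
      {W : Submodule F V | Typed Q k plus W} := by
    ext W
    constructor
    · rintro ⟨g, rfl⟩
      exact typed_map Q (g : V ≃ₗ[F] V) g.2 k plus W₀ hW₀
    · intro hW
      obtain ⟨σ, hs₀, hs⟩ : ∃ σ : ℤ, HasSign (res Q W₀) k σ ∧ HasSign (res Q W) k σ := by
        by_cases hp : plus
        · exact ⟨1, (plusOn_iff_hasSign Q W₀ k hW₀.1 hW₀.2.1).1 (hW₀.2.2.2 hp),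
            (plusOn_iff_hasSign Q W k hW.1 hW.2.1).1 (hW.2.2.2 hp)⟩
        · exact ⟨-1, (not_plusOn_iff_hasSign Q W₀ k hW₀.1 hW₀.2.1).1 (fun h => hp (hW₀.2.2.1 h)),
            (not_plusOn_iff_hasSign Q W k hW.1 hW.2.1).1 (fun h => hp (hW.2.2.1 h))⟩
      obtain ⟨φ, hφ⟩ := (geo_all (F := F)).iso_of_hasSign (res Q W₀) (res Q W)
        ((nd_res_iff Q W₀).2 hW₀.2.1) ((nd_res_iff Q W).2 hW.2.1) k hW₀.1 hW.1 σ hs₀ hs
      obtain ⟨g, hg, hgφ⟩ := Cfsg.Agent.Lib.Helper5.QuadIsom.witt Q hQ' W₀ W φ hφ
      refine ⟨⟨g, hg⟩, ?_⟩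
      show W₀.map (g : V →ₗ[F] V) = W
      apply Submodule.eq_of_le_of_finrank_eq
      · rintro _ ⟨x, hx, rfl⟩
        rw [LinearEquiv.coe_coe, hgφ ⟨x, hx⟩]
        exact (φ ⟨x, hx⟩).2
      · rw [LinearEquiv.finrank_map_eq g W₀, hW₀.1, hW.1]
  have h1 : Nat.card (MulAction.orbit (qIsoGroup Q) W₀) =
      Nat.card {W : Submodule F V // Typed Q k plus W} :=
    Nat.card_congr (Equiv.setCongr hset)
  rw [← h1, Nat.card_congr (MulAction.orbitEquivQuotientStabilizer (qIsoGroup Q) W₀),
    Subgroup.card_eq_card_quotient_mul_card_subgroup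
      (MulAction.stabilizer (qIsoGroup Q) W₀)]
  exact dvd_mul_right _ _

/-- Cauchy: an isometry of order `r` -/
theorem exists_order_r_q (Q : QuadraticForm F V) (r : ℕ) [hr : Fact r.Prime]
    (hdvd : r ∣ Nat.card (qIsoGroup Q)) :
    ∃ y : Module.End F V, (∀ x, Q (y x) = Q x) ∧ y ^ r = 1 ∧ y ≠ 1 := by
  haveI : Finite V := Module.finite_of_finite F
  haveI : Finite (V ≃ₗ[F] V) :=
    Finite.of_injective (fun g : V ≃ₗ[F] V => (g : V → V)) DFunLike.coe_injective
  obtain ⟨g, hg⟩ := exists_prime_orderOf_dvd_card' r hdvd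
  refine ⟨((g : V ≃ₗ[F] V) : V →ₗ[F] V), fun x => g.2 x, ?_, ?_⟩
  · have h1 : g ^ r = 1 := by
      rw [← hg]
      exact pow_orderOf_eq_one g
    have h2 : (g : V ≃ₗ[F] V) ^ r = 1 := by
      have h3 := congrArg Subtype.val h1
      exact h3
    rw [← coe_pow_equiv, h2]
    rfl
  · intro h
    have h1 : g = 1 := by
      apply Subtype.ext
      apply LinearEquiv.toLinearMap_injective
      exact h
    rw [h1, orderOf_one] at hg
    exact hr.out.one_lt.ne hg

/-- **if `r` divides the number of typed subspaces then the dimension is at least `c`** -/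
theorem le_finrank_of_dvd_card_all (Q : QuadraticForm F V) (hQ : Nd Q)
    (k : ℕ) (plus : Prop) (W₀ : Submodule F V) (hW₀ : Typed Q k plus W₀) (r : ℕ)
    [hr : Fact r.Prime] (hr2 : r ≠ 2) (hrq : ¬ r ∣ Fintype.card F)
    (hdvd : r ∣ Nat.card {W : Submodule F V // Typed Q k plus W}) (i c : ℕ)
    (hi : i = orderOf ((Fintype.card F : ℕ) : ZMod r)) (hc : c = if Even i then i else 2 * i) :
    c ≤ finrank F V := by
  obtain ⟨y, hyQ, hyr, hy1⟩ := exists_order_r_q Q r
    (hdvd.trans (card_typed_dvd_all Q hQ k plus W₀ hW₀))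
  have hr0 : 0 < r := hr.out.pos
  have hyB : ∀ x z, polarBilin Q (y x) (y z) = polarBilin Q x z := by
    intro x z
    rw [polarBilin_apply_apply, polarBilin_apply_apply]
    exact polar_isom Q y hyQ x z
  have hyy : ∀ x, y ((y ^ (r - 1)) x) = x := by
    intro x
    rw [← Module.End.mul_apply, ← pow_succ', Nat.sub_add_cancel hr0, hyr, Module.End.one_apply]
  have h1 := dvd_finrank_sub_fix (polarBilin Q) (symm_polarBilin Q) y (y ^ (r - 1)) hyB hyy r hr2
    hrq hyr i c hi hc ⊤ (fun _ _ => Submodule.mem_top) (fun _ _ => Submodule.mem_top)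
    (fun w _ hw => hQ w (fun u => by
      have := hw u Submodule.mem_top
      rwa [polarBilin_apply_apply, polar_comm] at this))
  rw [top_inf_eq, finrank_top] at h1
  have h2 : finrank F (LinearMap.ker (y - 1)) < finrank F V := by
    by_contra hcon
    push Not at hcon
    have h3 : LinearMap.ker (y - 1) = ⊤ :=
      Submodule.eq_top_of_finrank_eq (le_antisymm (Submodule.finrank_le _) hcon)
    apply hy1
    apply LinearMap.ext
    intro x
    have h4 : x ∈ LinearMap.ker (y - 1) := by rw [h3]; exact Submodule.mem_top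
    rw [LinearMap.mem_ker, LinearMap.sub_apply, Module.End.one_apply, sub_eq_zero] at h4
    rw [h4, Module.End.one_apply]
  have h5 := Nat.le_of_dvd (by omega) h1
  omega

/-- **the corner case**: if `r` divides the number of typed subspaces of dimension `2k < c`, then
no element of order `r` with fixed space of dimension less than `c` fixes a typed subspace -/
theorem corner_all {p : ℕ} [hp : Fact p.Prime] [CharP F p]
    (Q : QuadraticForm F V) (hQ : Nd Q)
    (g gi : V →ₗ[F] V) (hiso : ∀ x, Q (g x) = Q x) (gi_g : ∀ x, gi (g x) = x)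
    (g_gi : ∀ x, g (gi x) = x) (r : ℕ) [hr : Fact r.Prime] (hr2 : r ≠ 2) (hrp : r ≠ p)
    (hrq : ¬ r ∣ Fintype.card F)
    (hgr : g ^ r = 1) (i c : ℕ) (hi : i = orderOf ((Fintype.card F : ℕ) : ZMod r))
    (hc : c = if Even i then i else 2 * i)
    (hfd : finrank F (LinearMap.ker (g - 1)) < c) (k : ℕ)
    (plus : Prop) (hkc : 2 * k < c)
    (hdvd : r ∣ Nat.card {W : Submodule F V // Typed Q k plus W})
    (W₀ : Submodule F V) (hW₀ : Typed Q k plus W₀) (hW₀g : ∀ x ∈ W₀, g x ∈ W₀) : False := by
  have hr0 : 0 < r := hr.out.pos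
  have r0 : (r : F) ≠ 0 := by
    intro h
    have h1 := (CharP.cast_eq_zero_iff F p r).mp h
    exact hrp ((Nat.prime_dvd_prime_iff_eq hp.out hr.out).mp h1).symm
  obtain ⟨C, hC⟩ : ∃ C : Submodule F V, C = LinearMap.ker (g - 1) := ⟨_, rfl⟩
  have memC : ∀ x, x ∈ C ↔ g x = x := by
    intro x
    rw [hC, LinearMap.mem_ker, LinearMap.sub_apply, Module.End.one_apply, sub_eq_zero]
  have hCnd : NdOn Q C := by
    have := ndOn_fixPart Q g hiso r hgr r0 ⊤ (fun _ _ => Submodule.mem_top) (ndOn_top' Q hQ)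
    rwa [fixPart_top, ← hC] at this
  have hisoB : ∀ x y, polarBilin Q (g x) (g y) = polarBilin Q x y := by
    intro x y
    rw [polarBilin_apply_apply, polarBilin_apply_apply]
    exact polar_isom Q g hiso x y
  have hP : ∀ W, Typed Q k plus W → Typed Q k plus (W.map g) := by
    intro W hW
    obtain ⟨ge, hge⟩ := exists_equiv_of_pow hr0 hgr
    rw [← hge]
    exact typed_map Q ge (fun x => by
      have := hiso x
      rw [← hge] at this
      exact this) k plus W hW
  have hcong := card_pred_fix_modEq r hgr (Typed Q k plus) hP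
  have hfixset : ∀ W, Typed Q k plus W → (Elus.Inv g W ↔ W ≤ C) := by
    intro W hW
    constructor
    · intro hWg
      have hWi : ∀ x ∈ W, gi x ∈ W := gi_mem_of_inv g gi gi_g r hr0 hgr W hWg
      have h1 := dvd_finrank_sub_fix (polarBilin Q) (symm_polarBilin Q) g gi hisoB g_gi r hr2 hrq
        hgr i c hi hc W hWg hWi (fun w hw hwu => hW.2.1 w hw (fun u hu => by
          have := hwu u hu
          rwa [polarBilin_apply_apply, polar_comm] at this))
      rw [hW.1, ← hC] at h1
      have h3 : 2 * k - finrank F (W ⊓ C : Submodule F V) = 0 := by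
        rcases Nat.eq_zero_or_pos (2 * k - finrank F (W ⊓ C : Submodule F V)) with h | h
        · exact h
        · have := Nat.le_of_dvd h h1
          omega
      have h4 : (W ⊓ C : Submodule F V) = W := by
        apply Submodule.eq_of_le_of_finrank_le inf_le_left
        rw [hW.1]
        omega
      rw [← h4]
      exact inf_le_right
    · intro hWC x hx
      rw [(memC x).1 (hWC hx)]
      exact hx
  have hcard1 : Nat.card {W : Submodule F V // Typed Q k plus W ∧ Elus.Inv g W} =
      Nat.card {W : Submodule F V // Typed Q k plus W ∧ W ≤ C} :=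
    Nat.card_congr (Equiv.subtypeEquivRight (fun W =>
      ⟨fun h => ⟨h.1, (hfixset W h.1).1 h.2⟩, fun h => ⟨h.1, (hfixset W h.1).2 h.2⟩⟩))
  rw [hcard1, card_typed_sub_eq] at hcong
  have hdvd' : r ∣ Nat.card {W' : Submodule F C // Typed (res Q C) k plus W'} :=
    (hcong.dvd_iff dvd_rfl).1 hdvd
  have hNdC : Nd (res Q C) := (nd_res_iff Q C).2 hCnd
  have hW₀C : W₀ ≤ C := (hfixset W₀ hW₀).1 hW₀g
  have hbase : Typed (res Q C) k plus (W₀.comap C.subtype) := by
    rw [← typed_map_subtype_iff, Submodule.map_comap_subtype, inf_eq_right.2 hW₀C]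
    exact hW₀
  have := le_finrank_of_dvd_card_all (res Q C) hNdC k plus _ hbase r hr2 hrq hdvd' i c hi hc
  rw [hC] at this
  omega

end grp

end Cfsg.Agent.Lib.Helper5.ONd
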