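import Mathlib
import Cfsg.Agent.Lib.Helper5.ONd.Count

set_option autoImplicit false

/-!
# Involutions of orthogonal groups in characteristic two: invariant nondegenerate planes and
four-dimensional blocks
-/

namespace Cfsg.Agent.Lib.Helper5.ONd

open QuadraticMap Module Cfsg
open Cfsg.Agent.Lib.Helper5.QuadTwo Cfsg.Agent.Lib.Helper5.QuadSign
open Cfsg.Agent.Lib.Helper5.OElus
open Cfsg.Agent.Lib.Helper2 Cfsg.Agent.Lib.Helper2.SpImp

universe u

section two
variable {F : Type u} [Field F] {V : Type u} [AddCommGroup V] [Module F V]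

theorem polar_self_two (h2 : (2 : F) = 0) (Q : QuadraticForm F V) (v : V) : polar Q v v = 0 := by
  rw [polar_self, nsmul_eq_mul, Nat.cast_ofNat, h2, zero_mul]

theorem add_self_two (h2 : (2 : F) = 0) (v : V) : v + v = 0 := by
  rw [← two_smul F v, h2, zero_smul]

theorem neg_eq_two (h2 : (2 : F) = 0) (v : V) : -v = v :=
  neg_eq_of_add_eq_zero_left (add_self_two h2 v)

theorem isAlt_polarBilin (h2 : (2 : F) = 0) (Q : QuadraticForm F V) : (polarBilin Q).IsAlt := by
  intro x
  rw [polarBilin_apply_apply]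
  exact polar_self_two h2 Q x

theorem nondegenerate_polarBilin (Q : QuadraticForm F V) (hQ : Nd Q) :
    (polarBilin Q).Nondegenerate := by
  constructor
  · intro x hx
    apply hQ x
    intro w
    have := hx w
    rwa [polarBilin_apply_apply, polar_comm] at this
  · intro y hy
    apply hQ y
    intro w
    have := hy w
    rwa [polarBilin_apply_apply] at this

theorem ndOn_iff_ND [FiniteDimensional F V] (h2 : (2 : F) = 0) (Q : QuadraticForm F V)
    (W : Submodule F V) :
    NdOn Q W ↔ ND (polarBilin Q) W := by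
  rw [nd_iff (polarBilin Q) (isAlt_polarBilin h2 Q)]
  constructor
  · intro h u hu huv
    apply h u hu
    intro w hw
    have := huv w hw
    rwa [polarBilin_apply_apply, polar_comm] at this
  · intro h v hv hvw
    apply h v hv
    intro w hw
    have := hvw w hw
    rwa [polarBilin_apply_apply, polar_comm]

/-- the plane spanned by two vectors which are not orthogonal -/
theorem exists_plane_two [FiniteDimensional F V] (h2 : (2 : F) = 0) (Q : QuadraticForm F V)
    (u w : V) (hβ : polar Q u w ≠ 0) :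
    ∃ P : Submodule F V, u ∈ P ∧ w ∈ P ∧ NdOn Q P ∧ finrank F P = 2 ∧
      ∀ v ∈ P, ∃ s t : F, v = s • u + t • w := by
  obtain ⟨w', hw'⟩ : ∃ w' : V, w' = (polar Q u w)⁻¹ • w := ⟨_, rfl⟩
  have huw' : polarBilin Q u w' = 1 := by
    rw [polarBilin_apply_apply, hw', polar_smul_right, smul_eq_mul, inv_mul_cancel₀ hβ]
  obtain ⟨h3, h4⟩ := plane_props (polarBilin Q) (isAlt_polarBilin h2 Q) huw'
  refine ⟨Submodule.span F (Set.range ![u, w']), Submodule.subset_span ⟨0, rfl⟩, ?_,
    (ndOn_iff_ND h2 Q _).2 h3, h4, ?_⟩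
  · have h5 : w' ∈ Submodule.span F (Set.range ![u, w']) := Submodule.subset_span ⟨1, rfl⟩
    have h6 := Submodule.smul_mem _ (polar Q u w) h5
    have h7 : polar Q u w • w' = w := by rw [hw', smul_smul, mul_inv_cancel₀ hβ, one_smul]
    rwa [h7] at h6
  · intro v hv
    obtain ⟨cf, rfl⟩ := (Submodule.mem_span_range_iff_exists_fun F).mp hv
    refine ⟨cf 0, cf 1 * (polar Q u w)⁻¹, ?_⟩
    rw [Fin.sum_univ_two]
    simp only [Matrix.cons_val_zero, Matrix.cons_val_one]
    rw [hw', smul_smul]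

end two

section atoms
variable {F : Type u} [Field F] [Fintype F] {V : Type u} [AddCommGroup V] [Module F V]
  [FiniteDimensional F V]

/-- a nondegenerate plane containing a nonzero singular vector has sign `1` -/
theorem hasSign_plane_of_singular (Q : QuadraticForm F V) (P : Submodule F V) (hP : NdOn Q P)
    (hd : finrank F P = 2) (n : V) (hn : n ∈ P) (hn0 : n ≠ 0) (hQn : Q n = 0) :
    HasSign (res Q P) 1 1 := by
  rw [← plusOn_iff_hasSign Q P 1 (by rw [hd]) hP]
  refine ⟨Submodule.span F {n}, ?_, ?_, ?_⟩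
  · rw [Submodule.span_singleton_le_iff_mem]
    exact hn
  · intro u hu
    obtain ⟨s, rfl⟩ := Submodule.mem_span_singleton.1 hu
    rw [QuadraticMap.map_smul, hQn, smul_zero]
  · rw [finrank_span_singleton hn0, hd]

/-- **atoms**: an invariant nondegenerate subspace of positive dimension contains an invariant
nondegenerate plane, or an invariant nondegenerate subspace of dimension four and plus type -/
theorem exists_atom (h2 : (2 : F) = 0) (Q : QuadraticForm F V) (x : V →ₗ[F] V)
    (hiso : ∀ v, Q (x v) = Q v) (hxx : ∀ v, x (x v) = v) (W : Submodule F V)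
    (hWx : ∀ v ∈ W, x v ∈ W) (hnd : NdOn Q W) (hW0 : W ≠ ⊥) :
    ∃ D : Submodule F V, D ≤ W ∧ (∀ v ∈ D, x v ∈ D) ∧ NdOn Q D ∧
      (finrank F D = 2 ∨ (finrank F D = 4 ∧ HasSign (res Q D) 2 1)) := by
  have hpol : ∀ u v, polar Q (x u) (x v) = polar Q u v := polar_isom Q x hiso
  have hpol' : ∀ u v, polar Q (x u) v = polar Q u (x v) := by
    intro u v
    rw [← hpol u (x v), hxx]
  by_cases halt : ∀ v ∈ W, polar Q v (x v) = 0
  · by_cases hfix : ∀ v ∈ W, x v = v
    · -- the action is trivial: any nondegenerate plane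
      obtain ⟨u, hu, hu0⟩ := Submodule.exists_mem_ne_zero_of_ne_bot hW0
      obtain ⟨w, hw, huw⟩ : ∃ w ∈ W, polar Q w u ≠ 0 := by
        by_contra hcon
        push Not at hcon
        exact hu0 (hnd u hu hcon)
      rw [polar_comm] at huw
      obtain ⟨P, hPu, hPw, hPnd, hPd, hPspan⟩ := exists_plane_two h2 Q u w huw
      have hPW : P ≤ W := by
        intro v hv
        obtain ⟨s, t, rfl⟩ := hPspan v hv
        exact W.add_mem (W.smul_mem s hu) (W.smul_mem t hw)
      refine ⟨P, hPW, ?_, hPnd, Or.inl hPd⟩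
      intro v hv
      rw [hfix v (hPW hv)]
      exact hv
    · -- a four-dimensional block
      push Not at hfix
      obtain ⟨a, ha, hxa⟩ := hfix
      obtain ⟨n₁, hn₁⟩ : ∃ n₁, n₁ = a + x a := ⟨_, rfl⟩
      have hn₁W : n₁ ∈ W := by rw [hn₁]; exact W.add_mem ha (hWx a ha)
      have hn₁0 : n₁ ≠ 0 := by
        intro h
        apply hxa
        rw [hn₁] at h
        have h3 : x a = -a := (neg_eq_of_add_eq_zero_right h).symm
        rw [h3, neg_eq_two h2]
      obtain ⟨b, hb, hbn⟩ : ∃ b ∈ W, polar Q b n₁ ≠ 0 := by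
        by_contra hcon
        push Not at hcon
        exact hn₁0 (hnd n₁ hn₁W hcon)
      obtain ⟨β, hβ⟩ : ∃ β, β = polar Q n₁ b := ⟨_, rfl⟩
      have hβ0 : β ≠ 0 := by rw [hβ, polar_comm]; exact hbn
      obtain ⟨n₂, hn₂⟩ : ∃ n₂, n₂ = b + x b := ⟨_, rfl⟩
      have hn₂W : n₂ ∈ W := by rw [hn₂]; exact W.add_mem hb (hWx b hb)
      obtain ⟨α, hα⟩ : ∃ α, α = polar Q a b := ⟨_, rfl⟩
      obtain ⟨a₂, ha₂⟩ : ∃ a₂, a₂ = a + (α / β) • n₁ := ⟨_, rfl⟩
      have ha₂W : a₂ ∈ W := by rw [ha₂]; exact W.add_mem ha (W.smul_mem _ hn₁W)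
      have hxn₁ : x n₁ = n₁ := by rw [hn₁, map_add, hxx, add_comm]
      have hxn₂ : x n₂ = n₂ := by rw [hn₂, map_add, hxx, add_comm]
      have hxb : x b = b + n₂ := by
        rw [hn₂, ← add_assoc, add_self_two h2, zero_add]
      have hxa' : x a = a + n₁ := by
        rw [hn₁, ← add_assoc, add_self_two h2, zero_add]
      have haa : polar Q a (x a) = 0 := halt a ha
      have hbb : polar Q b (x b) = 0 := halt b hb
      have e1 : polar Q n₁ a = 0 := by
        rw [hn₁, polar_add_left, polar_self_two h2, zero_add, polar_comm, haa]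
      have e2 : polar Q n₁ n₁ = 0 := polar_self_two h2 Q n₁
      have e3 : polar Q n₁ (x b) = β := by
        rw [← hpol', hxn₁, hβ]
      have e4 : polar Q n₁ n₂ = 0 := by
        rw [hn₂, polar_add_right, e3, ← hβ, ← two_mul, h2, zero_mul]
      have e5 : polar Q n₂ b = 0 := by
        rw [hn₂, polar_add_left, polar_self_two h2, zero_add, polar_comm, hbb]
      have e6 : polar Q n₂ a = β := by
        rw [hn₂, polar_add_left, hpol', hβ, hn₁, polar_add_left, polar_comm (⇑Q) b a,
          polar_comm (⇑Q) b (x a)]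
      have e7 : polar Q n₂ a₂ = β := by
        rw [ha₂, polar_add_right, polar_smul_right, e6, polar_comm (⇑Q) n₂ n₁, e4, smul_zero,
          add_zero]
      have e8 : polar Q n₁ a₂ = 0 := by
        rw [ha₂, polar_add_right, polar_smul_right, e1, e2, smul_zero, add_zero]
      have e9 : polar Q b a₂ = 0 := by
        rw [ha₂, polar_add_right, polar_smul_right, polar_comm (⇑Q) b a, ← hα,
          polar_comm (⇑Q) b n₁, ← hβ, smul_eq_mul, div_mul_cancel₀ α hβ0, ← two_mul, h2, zero_mul]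
      obtain ⟨P₁, hP₁n, hP₁b, hP₁nd, hP₁d, hP₁span⟩ := exists_plane_two h2 Q n₁ b (hβ ▸ hβ0)
      obtain ⟨P₂, hP₂n, hP₂a, hP₂nd, hP₂d, hP₂span⟩ := exists_plane_two h2 Q n₂ a₂
        (by rw [e7]; exact hβ0)
      have hperp : Perp Q P₁ P₂ := by
        intro u hu v hv
        obtain ⟨s, t, rfl⟩ := hP₁span u hu
        obtain ⟨s', t', rfl⟩ := hP₂span v hv
        have e5' : polar Q b n₂ = 0 := by rw [polar_comm]; exact e5
        simp only [polar_add_left, polar_add_right, polar_smul_left, polar_smul_right, e4, e8,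
          e5', e9, smul_zero, add_zero]
      have hQn₁ : Q n₁ = 0 := by
        rw [hn₁, q_add, hiso, haa, add_zero, ← two_mul, h2, zero_mul]
      have hQn₂ : Q n₂ = 0 := by
        rw [hn₂, q_add, hiso, hbb, add_zero, ← two_mul, h2, zero_mul]
      have hn₂0 : n₂ ≠ 0 := by
        intro h
        rw [h, polar_zero_left] at e7
        exact hβ0 e7.symm
      have hs₁ := hasSign_plane_of_singular Q P₁ hP₁nd hP₁d n₁ hP₁n hn₁0 hQn₁
      have hs₂ := hasSign_plane_of_singular Q P₂ hP₂nd hP₂d n₂ hP₂n hn₂0 hQn₂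
      have hs := hasSign_sup hperp hP₁nd 1 1 (by rw [hP₁d]) (by rw [hP₂d]) 1 1 hs₁ hs₂
      rw [one_mul] at hs
      refine ⟨P₁ ⊔ P₂, ?_, ?_, ndOn_sup hperp hP₁nd hP₂nd, Or.inr ⟨?_, hs⟩⟩
      · apply sup_le
        · intro v hv
          obtain ⟨s, t, rfl⟩ := hP₁span v hv
          exact W.add_mem (W.smul_mem s hn₁W) (W.smul_mem t hb)
        · intro v hv
          obtain ⟨s, t, rfl⟩ := hP₂span v hv
          exact W.add_mem (W.smul_mem s hn₂W) (W.smul_mem t ha₂W)
      · intro v hv
        obtain ⟨u₁, hu₁, u₂, hu₂, rfl⟩ := Submodule.mem_sup.1 hv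
        obtain ⟨s, t, rfl⟩ := hP₁span u₁ hu₁
        obtain ⟨s', t', rfl⟩ := hP₂span u₂ hu₂
        have hxa₂ : x a₂ = a₂ + n₁ := by
          rw [ha₂, map_add, map_smul, hxn₁, hxa']
          abel
        simp only [map_add, map_smul, hxn₁, hxn₂, hxb, hxa₂]
        have m1 : n₁ ∈ P₁ ⊔ P₂ := Submodule.mem_sup_left hP₁n
        have m2 : b ∈ P₁ ⊔ P₂ := Submodule.mem_sup_left hP₁b
        have m3 : n₂ ∈ P₁ ⊔ P₂ := Submodule.mem_sup_right hP₂n
        have m4 : a₂ ∈ P₁ ⊔ P₂ := Submodule.mem_sup_right hP₂a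
        exact Submodule.add_mem _
          (Submodule.add_mem _ (Submodule.smul_mem _ s m1)
            (Submodule.smul_mem _ t (Submodule.add_mem _ m2 m3)))
          (Submodule.add_mem _ (Submodule.smul_mem _ s' m3)
            (Submodule.smul_mem _ t' (Submodule.add_mem _ m4 m1)))
      · rw [finrank_sup_of_perp hperp hP₁nd, hP₁d, hP₂d]
  · -- a reflection plane
    push Not at halt
    obtain ⟨v, hv, hvx⟩ := halt
    obtain ⟨P, hPv, hPxv, hPnd, hPd, hPspan⟩ := exists_plane_two h2 Q v (x v) hvx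
    refine ⟨P, ?_, ?_, hPnd, Or.inl hPd⟩
    · intro u hu
      obtain ⟨s, t, rfl⟩ := hPspan u hu
      exact W.add_mem (W.smul_mem s hv) (W.smul_mem t (hWx v hv))
    · intro u hu
      obtain ⟨s, t, rfl⟩ := hPspan u hu
      rw [map_add, map_smul, map_smul, hxx]
      exact P.add_mem (P.smul_mem s hPxv) (P.smul_mem t hPv)

end atoms

end Cfsg.Agent.Lib.Helper5.ONd
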