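import Mathlib
import Cfsg.Agent.Lib.Helper5.ONd.InvolAtom

set_option autoImplicit false

/-!
# Involutions of orthogonal groups in characteristic two: invariant nondegenerate subspaces of
prescribed dimension and type
-/

namespace Cfsg.Agent.Lib.Helper5.ONd

open QuadraticMap Module Cfsg
open Cfsg.Agent.Lib.Helper5.QuadTwo Cfsg.Agent.Lib.Helper5.QuadSign
open Cfsg.Agent.Lib.Helper5.OElus
open Cfsg.Agent.Lib.Helper2 Cfsg.Agent.Lib.Helper2.SpImp

universe u

section compl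
variable {F : Type u} [Field F] {V : Type u} [AddCommGroup V] [Module F V]
  [FiniteDimensional F V]

/-- the orthogonal complement, inside an invariant nondegenerate subspace, of an invariant
nondegenerate subspace -/
theorem exists_invol_compl (h2 : (2 : F) = 0) (Q : QuadraticForm F V) (x : V →ₗ[F] V)
    (hiso : ∀ v, Q (x v) = Q v) (hxx : ∀ v, x (x v) = v) (W D : Submodule F V)
    (hWx : ∀ v ∈ W, x v ∈ W) (hnd : NdOn Q W) (hDW : D ≤ W) (hDx : ∀ v ∈ D, x v ∈ D)
    (hD : NdOn Q D) :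
    ∃ W₁ : Submodule F V, W₁ ≤ W ∧ (∀ v ∈ W₁, x v ∈ W₁) ∧ NdOn Q W₁ ∧ Perp Q D W₁ ∧
      D ⊔ W₁ = W ∧ finrank F W = finrank F D + finrank F W₁ := by
  have hpol : ∀ u v, polar Q (x u) (x v) = polar Q u v := polar_isom Q x hiso
  have hpol' : ∀ u v, polar Q (x u) v = polar Q u (x v) := by
    intro u v
    rw [← hpol u (x v), hxx]
  have hA := isAlt_polarBilin h2 Q
  have hD' := (ndOn_iff_ND h2 Q D).1 hD
  have hW' := (ndOn_iff_ND h2 Q W).1 hnd
  have hperp : Perp Q D (W ⊓ LinearMap.BilinForm.orthogonal (polarBilin Q) D) := by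
    intro u hu w hw
    have := (mem_perp (polarBilin Q)).1 hw.2 u hu
    rwa [polarBilin_apply_apply] at this
  have hsup := (nd_rel (polarBilin Q) hA hD' hDW).2
  refine ⟨W ⊓ LinearMap.BilinForm.orthogonal (polarBilin Q) D, inf_le_left, ?_,
    (ndOn_iff_ND h2 Q _).2 (nd_perp_in (polarBilin Q) hA hW' hD' hDW), hperp, hsup, ?_⟩
  · intro v hv
    refine ⟨hWx v hv.1, ?_⟩
    apply (mem_perp (polarBilin Q)).2
    intro w hw
    have := (mem_perp (polarBilin Q)).1 hv.2 (x w) (hDx w hw)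
    rw [polarBilin_apply_apply] at this ⊢
    rw [← hpol']
    exact this
  · rw [← finrank_sup_of_perp hperp hD, hsup]

end compl

/-- the condition under which every involution of a `2n`-space of sign `ε` fixes a
nondegenerate `2h`-space of sign `δ` (a sufficient condition) -/
def Cond (n : ℕ) (ε : ℤ) (h : ℕ) (δ : ℤ) : Prop :=
  h ≤ n ∧ ((ε = 1 ∧ δ = 1 ∧ (n % 2 = 1 ∨ h % 2 = 0)) ∨
    (ε = -1 ∧ δ = -1 ∧ 1 ≤ h ∧ (n % 2 = 0 ∨ h % 2 = 1)) ∨
    (ε = -1 ∧ δ = 1 ∧ h + 1 ≤ n ∧ (n % 2 = 0 ∨ h % 2 = 0)))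

theorem cond_plane (n h : ℕ) (ε δ η : ℤ) (hη : η = 1 ∨ η = -1) (h0 : 0 < h) (hn : h < n)
    (hC : Cond n ε h δ) :
    Cond (n - 1) (ε * η) h δ ∨ Cond (n - 1) (ε * η) (h - 1) (δ * η) := by
  obtain ⟨hle, hC⟩ := hC
  rcases hη with rfl | rfl <;>
    rcases hC with ⟨rfl, rfl, hp⟩ | ⟨rfl, rfl, h1, hp⟩ | ⟨rfl, rfl, h1, hp⟩
  all_goals (unfold Cond; norm_num; omega)

theorem cond_block (n h : ℕ) (ε δ : ℤ) (h0 : 0 < h) (hn : h < n) (hn2 : 2 ≤ n)
    (h2 : n = 2 → ε = 1) (hC : Cond n ε h δ) :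
    Cond (n - 2) ε h δ ∨ (2 ≤ h ∧ Cond (n - 2) ε (h - 2) δ) := by
  obtain ⟨hle, hC⟩ := hC
  rcases hC with ⟨rfl, rfl, hp⟩ | ⟨rfl, rfl, h1, hp⟩ | ⟨rfl, rfl, h1, hp⟩
  all_goals (unfold Cond; norm_num at h2 ⊢; omega)

section main
variable {F : Type u} [Field F] [Fintype F] {V : Type u} [AddCommGroup V] [Module F V]
  [FiniteDimensional F V]

omit [Fintype F] in
theorem sup_invariant (x : V →ₗ[F] V) (A B : Submodule F V) (hA : ∀ v ∈ A, x v ∈ A)
    (hB : ∀ v ∈ B, x v ∈ B) : ∀ v ∈ A ⊔ B, x v ∈ A ⊔ B := by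
  intro v hv
  obtain ⟨a, ha, b, hb, rfl⟩ := Submodule.mem_sup.1 hv
  rw [map_add]
  exact Submodule.add_mem_sup (hA a ha) (hB b hb)

/-- **involutions in characteristic two**: under `Cond`, every involution of a nondegenerate
`2n`-space of sign `ε` fixes a nondegenerate `2h`-subspace of sign `δ` -/
theorem invol_exists (h2 : (2 : F) = 0) (Q : QuadraticForm F V) (x : V →ₗ[F] V)
    (hiso : ∀ v, Q (x v) = Q v) (hxx : ∀ v, x (x v) = v) :
    ∀ n : ℕ, ∀ W : Submodule F V, (∀ v ∈ W, x v ∈ W) → NdOn Q W → finrank F W = 2 * n →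
      ∀ ε : ℤ, HasSign (res Q W) n ε → ∀ (h : ℕ) (δ : ℤ), Cond n ε h δ →
      ∃ W' : Submodule F V, W' ≤ W ∧ (∀ v ∈ W', x v ∈ W') ∧ NdOn Q W' ∧
        finrank F W' = 2 * h ∧ HasSign (res Q W') h δ := by
  intro n
  induction n using Nat.strong_induction_on with
  | _ n ih =>
    intro W hWx hnd hdim ε hε h δ hC
    by_cases h0 : h = 0
    · subst h0
      have hδ : δ = 1 := by
        obtain ⟨-, hC⟩ := hC
        rcases hC with ⟨-, h, -⟩ | ⟨-, -, h, -⟩ | ⟨-, h, -⟩
        · exact h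
        · omega
        · exact h
      subst hδ
      refine ⟨⊥, bot_le, ?_, ndOn_bot' Q, by rw [finrank_bot], ?_⟩
      · intro v hv
        rw [Submodule.mem_bot] at hv ⊢
        rw [hv, map_zero]
      · exact hasSign_of_finrank_zero _ (finrank_bot F V)
    by_cases hhn : h = n
    · subst hhn
      have hδ : δ = ε := by
        obtain ⟨-, hC⟩ := hC
        rcases hC with ⟨h1, h2, -⟩ | ⟨h1, h2, -⟩ | ⟨-, -, h, -⟩
        · rw [h1, h2]
        · rw [h1, h2]
        · omega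
      subst hδ
      exact ⟨W, le_refl W, hWx, hnd, hdim, hε⟩
    have hlt : h < n := lt_of_le_of_ne hC.1 hhn
    have hpos : 0 < h := Nat.pos_of_ne_zero h0
    have hW0 : W ≠ ⊥ := by
      intro hW
      rw [hW, finrank_bot] at hdim
      omega
    obtain ⟨D, hDW, hDx, hD, hDd⟩ := exists_atom h2 Q x hiso hxx W hWx hnd hW0
    obtain ⟨W₁, hW₁W, hW₁x, hW₁, hperp, hsup, hfin⟩ :=
      exists_invol_compl h2 Q x hiso hxx W D hWx hnd hDW hDx hD
    rcases hDd with hDd | ⟨hDd, hDs⟩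
    · -- a plane
      obtain ⟨η, hη, hDs⟩ := exists_sign_on Q hD 1 (by rw [hDd])
      have hW₁d : finrank F W₁ = 2 * (n - 1) := by omega
      have hn1 : 1 + (n - 1) = n := by omega
      have hε' : HasSign (res Q (D ⊔ W₁)) (1 + (n - 1)) ε := by rw [hsup, hn1]; exact hε
      have hW₁s := hasSign_of_sup hperp hD hW₁ 1 (n - 1) (by rw [hDd]) hW₁d η ε hDs hε'
      rw [mul_comm] at hW₁s
      rcases cond_plane n h ε δ η hη hpos hlt hC with hC' | hC'
      · obtain ⟨W', hW'W, hW'x, hW', hW'd, hW's⟩ :=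
          ih (n - 1) (by omega) W₁ hW₁x hW₁ hW₁d (ε * η) hW₁s h δ hC'
        exact ⟨W', le_trans hW'W hW₁W, hW'x, hW', hW'd, hW's⟩
      · obtain ⟨W', hW'W, hW'x, hW', hW'd, hW's⟩ :=
          ih (n - 1) (by omega) W₁ hW₁x hW₁ hW₁d (ε * η) hW₁s (h - 1) (δ * η) hC'
        have hperp' : Perp Q D W' := hperp.mono (le_refl D) hW'W
        have hh1 : 1 + (h - 1) = h := by omega
        have hηδ : η * (δ * η) = δ := by
          rcases hη with rfl | rfl <;> ring
        refine ⟨D ⊔ W', ?_, sup_invariant x D W' hDx hW'x, ndOn_sup hperp' hD hW', ?_, ?_⟩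
        · rw [← hsup]
          exact sup_le_sup_left hW'W D
        · rw [finrank_sup_of_perp hperp' hD, hDd, hW'd]
          omega
        · have := hasSign_sup hperp' hD 1 (h - 1) (by rw [hDd]) hW'd η (δ * η) hDs hW's
          rwa [hh1, hηδ] at this
    · -- a block of dimension four and sign `+`
      have hle : finrank F D ≤ finrank F W := Submodule.finrank_mono hDW
      have hn2 : 2 ≤ n := by omega
      have hW₁d : finrank F W₁ = 2 * (n - 2) := by omega
      have hn1 : 2 + (n - 2) = n := by omega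
      have hε' : HasSign (res Q (D ⊔ W₁)) (2 + (n - 2)) ε := by rw [hsup, hn1]; exact hε
      have hW₁s := hasSign_of_sup hperp hD hW₁ 2 (n - 2) (by rw [hDd]) hW₁d 1 ε hDs hε'
      rw [one_mul] at hW₁s
      have hn2' : n = 2 → ε = 1 := by
        intro hn
        have h0' : finrank F W₁ = 0 := by rw [hW₁d, hn]
        have h1 := hasSign_of_finrank_zero (res Q W₁) h0'
        have hn0 : n - 2 = 0 := by omega
        rw [hn0] at hW₁s
        exact hW₁s.unique h1
      rcases cond_block n h ε δ hpos hlt hn2 hn2' hC with hC' | ⟨hh2, hC'⟩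
      · obtain ⟨W', hW'W, hW'x, hW', hW'd, hW's⟩ :=
          ih (n - 2) (by omega) W₁ hW₁x hW₁ hW₁d ε hW₁s h δ hC'
        exact ⟨W', le_trans hW'W hW₁W, hW'x, hW', hW'd, hW's⟩
      · obtain ⟨W', hW'W, hW'x, hW', hW'd, hW's⟩ :=
          ih (n - 2) (by omega) W₁ hW₁x hW₁ hW₁d ε hW₁s (h - 2) δ hC'
        have hperp' : Perp Q D W' := hperp.mono (le_refl D) hW'W
        have hh1 : 2 + (h - 2) = h := by omega
        refine ⟨D ⊔ W', ?_, sup_invariant x D W' hDx hW'x, ndOn_sup hperp' hD hW', ?_, ?_⟩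
        · rw [← hsup]
          exact sup_le_sup_left hW'W D
        · rw [finrank_sup_of_perp hperp' hD, hDd, hW'd]
          omega
        · have := hasSign_sup hperp' hD 2 (h - 2) (by rw [hDd]) hW'd 1 δ hDs hW's
          rwa [hh1, one_mul] at this

end main

end Cfsg.Agent.Lib.Helper5.ONd
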