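import Mathlib
import Cfsg.Agent.Lib.Helper5.ONd.InvolMain

set_option autoImplicit false

/-!
# Involutions of orthogonal groups in characteristic two: involutions `x` with `Q (x v - v) = 0`
for all `v`, and the ranks of `x - 1` on invariant nondegenerate subspaces
-/

namespace Cfsg.Agent.Lib.Helper5.ONd

open QuadraticMap Module Cfsg
open Cfsg.Agent.Lib.Helper5.QuadTwo Cfsg.Agent.Lib.Helper5.QuadSign
open Cfsg.Agent.Lib.Helper5.OElus

universe u

section atype
variable {F : Type u} [Field F] {V : Type u} [AddCommGroup V] [Module F V]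

theorem atype_polar (Q : QuadraticForm F V) (x : V →ₗ[F] V)
    (hiso : ∀ v, Q (x v) = Q v) (hT : ∀ v, Q (x v - v) = 0) (u : V) :
    polar Q u (x u - u) = 0 := by
  unfold polar
  rw [add_sub_cancel, hiso, hT]
  ring

theorem movPart_le_fixPart_two (h2 : (2 : F) = 0) (x : V →ₗ[F] V) (hxx : ∀ v, x (x v) = v)
    (W : Submodule F V) (hWx : ∀ v ∈ W, x v ∈ W) : movPart x W ≤ fixPart x W := by
  intro v hv
  obtain ⟨y, hy, rfl⟩ := (mem_movPart x W v).1 hv
  rw [mem_fixPart]
  refine ⟨W.sub_mem (hWx y hy) hy, ?_⟩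
  rw [map_sub, hxx, ← neg_sub, neg_eq_two h2]

theorem movPart_ts (Q : QuadraticForm F V) (x : V →ₗ[F] V) (hT : ∀ v, Q (x v - v) = 0)
    (W : Submodule F V) : ∀ v ∈ movPart x W, Q v = 0 := by
  intro v hv
  obtain ⟨y, -, rfl⟩ := (mem_movPart x W v).1 hv
  exact hT y

variable [FiniteDimensional F V]

/-- the rank of `x - 1` on an invariant nondegenerate subspace is even -/
theorem even_movPart (Q : QuadraticForm F V) (x : V →ₗ[F] V)
    (hiso : ∀ v, Q (x v) = Q v) (hT : ∀ v, Q (x v - v) = 0) (W : Submodule F V)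
    (hWx : ∀ v ∈ W, x v ∈ W) (hnd : NdOn Q W) : Even (finrank F (movPart x W)) := by
  have hW' : ∀ v ∈ W, (x - 1) v ∈ W := by
    intro v hv
    rw [LinearMap.sub_apply, Module.End.one_apply]
    exact W.sub_mem (hWx v hv) hv
  obtain ⟨T, hTdef⟩ : ∃ T : Module.End F W, T = (x - 1).restrict hW' := ⟨_, rfl⟩
  have hTv : ∀ u : W, ((T u : W) : V) = x (u : V) - (u : V) := by
    intro u
    rw [hTdef, LinearMap.restrict_coe_apply, LinearMap.sub_apply, Module.End.one_apply]
  have key := Cfsg.Agent.Lib.Helper5.OUnip.even_rank_of_alt (B := polarBilin (res Q W)) ?_ ?_ T ?_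
  · have h1 : (LinearMap.range T).map W.subtype = movPart x W := by
      ext v
      constructor
      · rintro ⟨_, ⟨u, rfl⟩, rfl⟩
        rw [mem_movPart]
        exact ⟨u.1, u.2, (hTv u).symm⟩
      · intro hv
        obtain ⟨y, hy, rfl⟩ := (mem_movPart x W v).1 hv
        exact ⟨T ⟨y, hy⟩, ⟨_, rfl⟩, hTv ⟨y, hy⟩⟩
    rw [← h1, Submodule.finrank_map_subtype_eq]
    exact key
  · intro a b
    rw [polarBilin_apply_apply, polarBilin_apply_apply, polar_comm]
  · intro a ha
    apply (nd_res_iff Q W).2 hnd a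
    intro w
    have := ha w
    rwa [polarBilin_apply_apply, polar_comm] at this
  · intro u
    rw [polarBilin_apply_apply, polar_res, hTv]
    exact atype_polar Q x hiso hT u.1

theorem movPart_split (x : V →ₗ[F] V) (W W₁ : Submodule F V) (hWx : ∀ v ∈ W, x v ∈ W)
    (hW₁x : ∀ v ∈ W₁, x v ∈ W₁) (hdis : Disjoint W W₁) (hsup : W ⊔ W₁ = ⊤) :
    finrank F (LinearMap.range (x - 1)) =
      finrank F (movPart x W) + finrank F (movPart x W₁) := by
  have h1 : LinearMap.range (x - 1) = movPart x W ⊔ movPart x W₁ := by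
    rw [← movPart_top, ← hsup]
    unfold movPart
    exact Submodule.map_sup _ _ _
  have h3 : Disjoint (movPart x W) (movPart x W₁) :=
    hdis.mono (movPart_le x W hWx) (movPart_le x W₁ hW₁x)
  rw [h1, ← Submodule.finrank_sup_add_finrank_inf_eq, h3.eq_bot, finrank_bot, add_zero]

end atype

section atypefin
variable {F : Type u} [Field F] [Fintype F] {V : Type u} [AddCommGroup V] [Module F V]
  [FiniteDimensional F V]

/-- the rank of `x - 1` on an invariant nondegenerate `2k`-space is at most `k`, and at most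
`k - 1` for a space of sign `-` -/
theorem movPart_rank_le (h2 : (2 : F) = 0) (Q : QuadraticForm F V) (x : V →ₗ[F] V)
    (hxx : ∀ v, x (x v) = v) (hT : ∀ v, Q (x v - v) = 0)
    (W : Submodule F V) (hWx : ∀ v ∈ W, x v ∈ W) (hnd : NdOn Q W) (k : ℕ)
    (hk : finrank F W = 2 * k) :
    finrank F (movPart x W) ≤ k ∧
      (HasSign (res Q W) k (-1) → finrank F (movPart x W) + 1 ≤ k) := by
  have h1 := finrank_movPart x W
  have h3 := Submodule.finrank_mono (movPart_le_fixPart_two h2 x hxx W hWx)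
  refine ⟨by omega, ?_⟩
  intro hs
  by_contra hcon
  have hge : k ≤ finrank F (movPart x W) := by omega
  have hNd : Nd (res Q W) := (nd_res_iff Q W).2 hnd
  have hle : movPart x W ≤ W := movPart_le x W hWx
  have h4 := hasSign_of_ts k W (res Q W) hNd hk ((movPart x W).comap W.subtype) ?_ ?_
  · have := hs.unique h4
    norm_num at this
  · intro v hv
    rw [res_apply]
    exact movPart_ts Q x hT W _ hv
  · rw [(Submodule.comapSubtypeEquivOfLe hle).finrank_eq]
    exact hge

/-- **the ranks on an invariant nondegenerate subspace and on its orthogonal complement** -/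
theorem atype_bad (h2 : (2 : F) = 0) (Q : QuadraticForm F V) (hQ : Nd Q) (x : V →ₗ[F] V)
    (hiso : ∀ v, Q (x v) = Q v) (hxx : ∀ v, x (x v) = v) (hT : ∀ v, Q (x v - v) = 0)
    (d : ℕ) (hd : finrank F V = 2 * d) (κ : ℕ)
    (hker : finrank F (LinearMap.ker (x - 1)) ≤ κ)
    (W : Submodule F V) (hWx : ∀ v ∈ W, x v ∈ W) (hnd : NdOn Q W) (k : ℕ)
    (hk : finrank F W = 2 * k) :
    ∃ s s' : ℕ, 2 * d ≤ κ + s + s' ∧ Even s ∧ Even s' ∧ s ≤ k ∧ s' ≤ d - k ∧
      (HasSign (res Q W) k (-1) → s + 1 ≤ k) := by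
  obtain ⟨W₁, -, hW₁x, hW₁, hperp, hsup, hfin⟩ := exists_invol_compl h2 Q x hiso hxx ⊤ W
    (fun _ _ => Submodule.mem_top) (ndOn_top' Q hQ) le_top hWx hnd
  rw [finrank_top, hd, hk] at hfin
  have hW₁d : finrank F W₁ = 2 * (d - k) := by omega
  have hsplit := movPart_split x W W₁ hWx hW₁x (disjoint_of_perp hperp hnd) hsup
  have hrn := LinearMap.finrank_range_add_finrank_ker (x - 1)
  rw [hd] at hrn
  obtain ⟨ha, hb⟩ := movPart_rank_le h2 Q x hxx hT W hWx hnd k hk
  obtain ⟨ha', -⟩ := movPart_rank_le h2 Q x hxx hT W₁ hW₁x hW₁ (d - k) hW₁d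
  exact ⟨finrank F (movPart x W), finrank F (movPart x W₁), by omega,
    even_movPart Q x hiso hT W hWx hnd, even_movPart Q x hiso hT W₁ hW₁x hW₁, ha, ha', hb⟩

end atypefin

end Cfsg.Agent.Lib.Helper5.ONd
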