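import Mathlib
import Cfsg.Agent.Lib.Helper5.OParab.MaxPM
import Cfsg.Agent.Lib.Helper5.ONd.Count

set_option autoImplicit false

/-!
# Elements of odd prime order of `Ω^±_{2d}(q)` with the smallest possible fixed space, all `q`
-/

namespace Cfsg.Agent.Lib.Helper5.ONd

open QuadraticMap Module Polynomial Cfsg
open Cfsg.Agent.Lib.Helper5.QuadTwo Cfsg.Agent.Lib.Helper5.QuadSign
open Cfsg.Agent.Lib.Helper5.SemiCount Cfsg.Agent.Lib.Helper5.OrthPrime
open Cfsg.Agent.Lib.Helper4.PrimeOrd Cfsg.Agent.Lib.Helper5.NsPt Cfsg.Agent.Lib.Helper5.OElus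
open Cfsg.Agent.Lib.Helper5.OParab

universe u

section fix
variable {F : Type u} [Field F] {V : Type*} [AddCommGroup V] [Module F V] [FiniteDimensional F V]

/-- the dimension of the fixed space of a semisimple endomorphism -/
theorem finrank_fix_eq_rootMultiplicity (y : Module.End F V) (r : ℕ) (r0 : (r : F) ≠ 0)
    (hy : y ^ r = 1) :
    finrank F (LinearMap.ker (y - 1)) = (LinearMap.charpoly y).rootMultiplicity 1 := by
  rw [← LinearMap.finrank_maxGenEigenspace_eq,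
    (Cfsg.Agent.Lib.Helper2.Elus.isSemisimple_of_pow_eq_one y r r0
      hy).isFinitelySemisimple.maxGenEigenspace_eq_eigenspace, Module.End.eigenspace_def, one_smul]

end fix

section max
variable {F : Type u} [Field F] [Fintype F] {r i t : ℕ} {f : Fin t → F[X]}
variable {ι : Type} [Fintype ι] [DecidableEq ι]

/-- the dimension of the fixed space from the characteristic polynomial -/
theorem finrank_fix_of_charpoly_all (Q : QuadraticForm F (ι → F))
    (r0 : (r : F) ≠ 0) (H : FamHyp r i t f) (n : ℕ) (cv : Fin t → ℕ)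
    (g : ↥(Cfsg.isometryGroup F ⇑Q)) (hg : g ^ r = 1)
    (hcp : ((g : GL ι F) : Matrix ι ι F).charpoly = Pc n i t f cv) :
    finrank F (LinearMap.ker (Matrix.toLin' ((g : GL ι F) : Matrix ι ι F) - 1)) =
      n - i * ∑ j, cv j := by
  obtain ⟨gl, gi, hgdef, hiso, gi_g, g_gi, hpow⟩ := exists_lin_data Q (g : GL ι F) g.2
  have hgr : gl ^ r = 1 := hpow r (by rw [← Subgroup.coe_pow, hg, Subgroup.coe_one])
  have h1 := finrank_fix_eq_rootMultiplicity gl r r0 hgr
  rw [hgdef, Matrix.charpoly_toLin', hcp, rootMultiplicity_Pc H] at h1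
  exact h1

variable (p : ℕ) [Fact p.Prime] [CharP F p]

include p in
/-- a maximal element from a realisation of the characteristic polynomial -/
theorem max_of_real_all {q : ℕ} (hF : Fintype.card F = q)
    (Q : QuadraticForm F (ι → F)) (hQ : Nd Q) (d : ℕ) (hcard : Fintype.card ι = 2 * d)
    (r : ℕ) [hr : Fact r.Prime] (hr2 : r ≠ 2) (hrp : r ≠ p) (i c : ℕ)
    (hi : i = orderOf (q : ZMod r)) (hc : c = if Even i then i else 2 * i) (hcn : c ≤ 2 * d)
    (hreal : ∀ (t : ℕ) (f : Fin t → F[X]), FamHyp r i t f → ∀ π : Fin t → Fin t,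
      Function.Involutive π → (∀ j, Cfsg.Agent.Lib.Helper5.SemiCount.star (RingHom.id F) (f j) =
        f (π j)) → (Even i → π = id) → (¬ Even i → ∀ j, π j ≠ j) →
      ∀ cv : Fin t → ℕ, i * ∑ j, cv j = c * (2 * d / c) → (∀ j, cv (π j) = cv j) →
        ∃ g : ↥(Cfsg.isometryGroup F ⇑Q), g ^ r = 1 ∧
          ((g : GL ι F) : Matrix ι ι F).charpoly = Pc (2 * d) i t f cv) :
    ∃ g : ↥(Cfsg.isometryGroup F ⇑Q), g ^ r = 1 ∧ g ≠ 1 ∧ g ∈ Cfsg.Omega F ⇑Q ∧
      finrank F (LinearMap.ker (Matrix.toLin' ((g : GL ι F) : Matrix ι ι F) - 1)) =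
        (2 * d) % c := by
  classical
  have rodd : Odd r := hr.out.odd_of_ne_two hr2
  obtain ⟨hqr, t, ht⟩ := exists_order_setup p hF r hr.out hrp
  rw [← hi] at ht
  obtain ⟨r0, hi', ht1, f, H, π, hπi, hπ, hπe, hπo⟩ :=
    family_setup p hF r i t hr.out hr2 hrp hi ht
  have hi0 : 0 < i := H.ipos
  have hc0 : 0 < c := by
    rw [hc]
    split_ifs <;> omega
  obtain ⟨cv, hsum, hcπ⟩ := exists_cv i c t hc ht1 π hπi hπe (2 * d / c)
  obtain ⟨g, hg, hcp⟩ := hreal t f H π hπi hπ hπe hπo cv hsum hcπ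
  have hfix := finrank_fix_of_charpoly_all Q r0 H (2 * d) cv g hg hcp
  have hdm := Nat.div_add_mod (2 * d) c
  have hfix' : finrank F (LinearMap.ker (Matrix.toLin' ((g : GL ι F) : Matrix ι ι F) - 1)) =
      (2 * d) % c := by
    rw [hfix, hsum]
    omega
  refine ⟨g, hg, ?_, mem_Omega_of_odd_order Q hQ g r rodd r0 hg, hfix'⟩
  rintro rfl
  have h1 : Matrix.toLin' (((1 : ↥(Cfsg.isometryGroup F ⇑Q)) : GL ι F) : Matrix ι ι F) - 1 = 0 := by
    rw [Subgroup.coe_one, Units.val_one, Matrix.toLin'_one]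
    exact sub_self _
  rw [h1, LinearMap.ker_zero, finrank_top, Module.finrank_fintype_fun_eq_card, hcard] at hfix'
  have := Nat.mod_lt (2 * d) hc0
  have h3 : 1 ≤ 2 * d / c := (Nat.one_le_div_iff hc0).2 hcn
  have h4 : c * 1 ≤ c * (2 * d / c) := Nat.mul_le_mul_left c h3
  omega

end max

section maxpm
variable {F : Type u} [Field F] [Fintype F] (p : ℕ) [Fact p.Prime] [CharP F p]

include p in
/-- **an element of `Ω⁺_{2d}(q)` of odd prime order `r ≠ p` with fixed space of dimension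
`2d % c`**, all `q` -/
theorem exists_max_plus_all {q : ℕ} (hF : Fintype.card F = q)
    (d : ℕ) (r : ℕ) [hr : Fact r.Prime] (hr2 : r ≠ 2) (hrp : r ≠ p) (i c : ℕ)
    (hi : i = orderOf (q : ZMod r)) (hc : c = if Even i then i else 2 * i) (hcn : c ≤ 2 * d)
    (hk₀ : 0 < (2 * d) % c) :
    ∃ g : ↥(Cfsg.isometryGroup F ⇑(qPlus (F := F) d)), g ^ r = 1 ∧ g ≠ 1 ∧
      g ∈ Cfsg.Omega F ⇑(qPlus (F := F) d) ∧
      finrank F (LinearMap.ker (Matrix.toLin' ((g : GL (Fin d ⊕ Fin d) F) :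
        Matrix (Fin d ⊕ Fin d) (Fin d ⊕ Fin d) F) - 1)) = (2 * d) % c := by
  have hcard : Fintype.card (Fin d ⊕ Fin d) = 2 * d := by
    rw [Fintype.card_sum, Fintype.card_fin]
    ring
  have hi' : orderOf ((Fintype.card F : ℕ) : ZMod r) = i := by rw [hF]; exact hi.symm
  have hdm := Nat.div_add_mod (2 * d) c
  apply max_of_real_all p hF (qPlus d) (nd_qPlus d) d hcard r hr2 hrp i c hi hc hcn
  intro t f H π hπi hπ hπe hπo cv hsum hcπ
  by_cases hev : Even i
  · have hπ' : ∀ j, Cfsg.Agent.Lib.Helper5.SemiCount.star (RingHom.id F) (f j) = f j := by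
      intro j
      rw [hπ j, hπe hev]
      rfl
    exact exists_even_Pc p hr2 H hπ' hi' hev (qPlus d) (nd_qPlus d) d hcard 1 (Or.inl rfl)
      (hasSign_qPlus d) cv (by rw [hsum]; exact Nat.mul_div_le _ _) (fun hfull => by
        rw [hsum] at hfull
        omega)
  · exact exists_plus_Pc_odd p H π hπi hπ (hπo hev) d cv (by
      rw [hsum]
      exact Nat.mul_div_le _ _) hcπ

include p in
/-- **an element of `Ω⁻_{2d}(q)` of odd prime order `r ≠ p` with fixed space of dimension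
`2d % c > 0`**, all `q` -/
theorem exists_max_minus_all {q : ℕ} (hF : Fintype.card F = q)
    (d' : ℕ) (a b : F)
    (hab : ∀ z₁ z₂ : F, z₁ ^ 2 + a * z₁ * z₂ + b * z₂ ^ 2 = 0 → z₁ = 0 ∧ z₂ = 0)
    (r : ℕ) [hr : Fact r.Prime] (hr2 : r ≠ 2) (hrp : r ≠ p) (i c : ℕ)
    (hi : i = orderOf (q : ZMod r)) (hc : c = if Even i then i else 2 * i)
    (hcn : c ≤ 2 * (d' + 1)) (hk₀ : 0 < (2 * (d' + 1)) % c) :
    ∃ g : ↥(Cfsg.isometryGroup F ⇑(qMinus (F := F) d' a b)), g ^ r = 1 ∧ g ≠ 1 ∧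
      g ∈ Cfsg.Omega F ⇑(qMinus (F := F) d' a b) ∧
      finrank F (LinearMap.ker (Matrix.toLin' ((g : GL ((Fin d' ⊕ Fin d') ⊕ Fin 2) F) :
        Matrix ((Fin d' ⊕ Fin d') ⊕ Fin 2) ((Fin d' ⊕ Fin d') ⊕ Fin 2) F) - 1)) =
        (2 * (d' + 1)) % c := by
  have hcard : Fintype.card ((Fin d' ⊕ Fin d') ⊕ Fin 2) = 2 * (d' + 1) := by
    rw [Fintype.card_sum, Fintype.card_sum, Fintype.card_fin, Fintype.card_fin]
    ring
  have hi' : orderOf ((Fintype.card F : ℕ) : ZMod r) = i := by rw [hF]; exact hi.symm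
  have hdm := Nat.div_add_mod (2 * (d' + 1)) c
  apply max_of_real_all p hF (qMinus d' a b) (nd_qMinus d' hab) (d' + 1) hcard r hr2 hrp i c hi
    hc hcn
  intro t f H π hπi hπ hπe hπo cv hsum hcπ
  by_cases hev : Even i
  · have hπ' : ∀ j, Cfsg.Agent.Lib.Helper5.SemiCount.star (RingHom.id F) (f j) = f j := by
      intro j
      rw [hπ j, hπe hev]
      rfl
    exact exists_even_Pc p hr2 H hπ' hi' hev (qMinus d' a b) (nd_qMinus d' hab) (d' + 1) hcard
      (-1) (Or.inr rfl) (hasSign_qMinus d' hab) cv (by rw [hsum]; exact Nat.mul_div_le _ _)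
      (fun hfull => by
        rw [hsum] at hfull
        omega)
  · exact exists_minus_Pc_odd p H π hπi hπ (hπo hev) d' a b cv (by
      rw [hsum]
      exact Nat.mul_div_le _ _) (by rw [hsum]; omega) hcπ

end maxpm

end Cfsg.Agent.Lib.Helper5.ONd
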