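import Mathlib
import Cfsg.Agent.Lib.Helper5.ONd.Count
import Cfsg.Agent.Lib.Helper5.OParab.NegOmega
import Cfsg.Agent.Lib.Helper5.OParab.TwoCrit

set_option autoImplicit false

/-!
# Isometries squaring to `-1` (odd characteristic): the invariant nondegenerate subspaces
-/

namespace Cfsg.Agent.Lib.Helper5.ONd

open QuadraticMap Module Cfsg
open Cfsg.Agent.Lib.Helper5.QuadTwo Cfsg.Agent.Lib.Helper5.QuadSign
open Cfsg.Agent.Lib.Helper5.OElus Cfsg.Agent.Lib.Helper5.OParab

universe u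

section negsq
variable {F : Type u} [Field F] [Fintype F] {V : Type u} [AddCommGroup V] [Module F V]
  [FiniteDimensional F V]

omit [Fintype F] in
/-- invariant nondegenerate subspaces of every even codimension -/
theorem exists_inv_nd_of_neg_sq (h2 : (2 : F) ≠ 0) (Q : QuadraticForm F V) (hQ : Nd Q)
    (g : V →ₗ[F] V) (hiso : ∀ x, Q (g x) = Q x) (hgg : ∀ v, g (g v) = -v) :
    ∀ j : ℕ, 2 * j ≤ finrank F V → ∃ U : Submodule F V, (∀ x ∈ U, g x ∈ U) ∧ NdOn Q U ∧
      finrank F U + 2 * j = finrank F V := by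
  intro j
  induction j with
  | zero =>
    intro _
    exact ⟨⊤, fun _ _ => Submodule.mem_top, ndOn_top' Q hQ, by rw [finrank_top]; omega⟩
  | succ j ih =>
    intro hj
    obtain ⟨U, hUg, hUnd, hUd⟩ := ih (by omega)
    obtain ⟨v, -, -, U', -, hU'g, hU'nd, hU'd, -⟩ := neg_sq_step h2 Q g hiso hgg U hUg hUnd
      (by omega)
    exact ⟨U', hU'g, hU'nd, by omega⟩

/-- **the invariant nondegenerate subspaces of an isometry squaring to `-1`** have a forced
type, and exist in every even dimension -/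
theorem neg_sq_typed_iff (hq : Odd (Fintype.card F)) (Q : QuadraticForm F V) (hQ : Nd Q)
    (g : V →ₗ[F] V) (hiso : ∀ x, Q (g x) = Q x) (hgg : ∀ v, g (g v) = -v) (k : ℕ) (hk1 : 1 ≤ k)
    (hkn : 2 * k ≤ finrank F V) (plus : Prop) :
    (∃ W : Submodule F V, Typed Q k plus W ∧ ∀ x ∈ W, g x ∈ W) ↔
      (plus ↔ (Even k ∨ Fintype.card F % 4 = 1)) := by
  have h2 : (2 : F) ≠ 0 := Cfsg.Agent.Lib.Helper5.two_ne_zero_of_odd_card hq
  have key : ∀ W : Submodule F V, finrank F W = 2 * k → NdOn Q W → (∀ x ∈ W, g x ∈ W) →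
      (PlusOn Q W ↔ (Even k ∨ Fintype.card F % 4 = 1)) := by
    intro W hWd hWnd hWg
    obtain ⟨gW, hgW⟩ : ∃ gW : W →ₗ[F] W, gW = g.restrict hWg := ⟨_, rfl⟩
    have hgWapp : ∀ x : W, ((gW x : W) : V) = g x := fun x => by rw [hgW]; rfl
    have hs := hasSign_of_neg_sq hq (res Q W) ((nd_res_iff Q W).2 hWnd) gW
      (fun x => by rw [res_apply, res_apply, hgWapp, hiso])
      (fun x => by
        apply Subtype.ext
        rw [hgWapp, hgWapp, hgg]
        rfl) k hk1 hWd
    rw [← even_half_iff k (Fintype.card F) hq]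
    by_cases hE : Even (k * (Fintype.card F - 1) / 2)
    · rw [if_pos hE] at hs
      exact ⟨fun _ => hE, fun _ => (plusOn_iff_hasSign Q W k hWd hWnd).2 hs⟩
    · rw [if_neg hE] at hs
      have := (not_plusOn_iff_hasSign Q W k hWd hWnd).2 hs
      exact ⟨fun h => absurd h this, fun h => absurd h hE⟩
  constructor
  · rintro ⟨W, ⟨hWd, hWnd, hWp⟩, hWg⟩
    rw [← hWp]
    exact key W hWd hWnd hWg
  · intro hpl
    have hev : Even (finrank F V) := by
      have := even_finrank_of_sq_neg_one h2 Q g hiso hgg ⊤ (fun _ _ => Submodule.mem_top)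
        (ndOn_top' Q hQ)
      rwa [finrank_top] at this
    obtain ⟨d, hd⟩ := hev
    obtain ⟨U, hUg, hUnd, hUd⟩ := exists_inv_nd_of_neg_sq h2 Q hQ g hiso hgg (d - k) (by omega)
    have hUk : finrank F U = 2 * k := by omega
    exact ⟨U, ⟨hUk, hUnd, (key U hUk hUnd hUg).trans hpl.symm⟩, hUg⟩

end negsq

end Cfsg.Agent.Lib.Helper5.ONd
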