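import Mathlib
import Cfsg.Agent.Lib.Helper5.ONd.Arith
import Cfsg.Agent.Lib.Helper5.ONd.NegSq
import Cfsg.Agent.Lib.Helper5.ONd.Max
import Cfsg.Agent.Lib.Helper5.OParab.Main

set_option autoImplicit false

/-!
# Elements of prime order of `Ω^±_{2d}(q)` fixing a nondegenerate subspace of even dimension and
given type: the general statement, all `q`
-/

namespace Cfsg.Agent.Lib.Helper5.ONd

open QuadraticMap Module Cfsg
open Cfsg.Agent.Lib.Helper5.QuadTwo Cfsg.Agent.Lib.Helper5.QuadSign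
open Cfsg.Agent.Lib.Helper5.OrthPrime Cfsg.Agent.Lib.Helper5.OElus
open Cfsg.Agent.Lib.Helper5.OParab

universe u

section typed
variable {F : Type u} [Field F] [Fintype F] {V : Type u} [AddCommGroup V] [Module F V]
  [FiniteDimensional F V]

/-- typed subspaces in terms of the sign -/
theorem typed_iff_sign (Q : QuadraticForm F V) (k : ℕ) (plus : Prop) (δ : ℤ)
    (hδ : (plus → δ = 1) ∧ (¬ plus → δ = -1)) (W : Submodule F V) :
    Typed Q k plus W ↔ finrank F W = 2 * k ∧ NdOn Q W ∧ HasSign (res Q W) k δ := by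
  constructor
  · rintro ⟨h1, h2, h3⟩
    refine ⟨h1, h2, ?_⟩
    by_cases hp : plus
    · rw [hδ.1 hp]
      exact (plusOn_iff_hasSign Q W k h1 h2).1 (h3.2 hp)
    · rw [hδ.2 hp]
      exact (not_plusOn_iff_hasSign Q W k h1 h2).1 (fun h => hp (h3.1 h))
  · rintro ⟨h1, h2, h3⟩
    refine ⟨h1, h2, ?_⟩
    by_cases hp : plus
    · rw [hδ.1 hp] at h3
      exact ⟨fun _ => hp, fun _ => (plusOn_iff_hasSign Q W k h1 h2).2 h3⟩
    · rw [hδ.2 hp] at h3
      have := (not_plusOn_iff_hasSign Q W k h1 h2).2 h3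
      exact ⟨fun h => absurd h this, fun h => absurd h hp⟩

end typed

section main
variable {F : Type u} [Field F] [Fintype F] {ι : Type} [Fintype ι] [DecidableEq ι]

set_option maxHeartbeats 1600000 in
/-- **the general statement**, with the existence of the relevant elements and the case `r = p`
as hypotheses -/
theorem main_iff {p : ℕ} [hp : Fact p.Prime] [CharP F p] {q : ℕ}
    (hq : Fintype.card F = q) (Q : QuadraticForm F (ι → F)) (hQ : Nd Q)
    (d k : ℕ) (hcard : Fintype.card ι = 2 * d) (hk1 : 1 ≤ k) (hkd : k + 1 ≤ d)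
    (ε : ℤ) (hε : HasSign Q d ε) (plus : Prop) (δ : ℤ)
    (hδ : (plus → δ = 1) ∧ (¬ plus → δ = -1))
    (r : ℕ) [hr : Fact r.Prime]
    (hrΩ : r ∣ Nat.card {W : Submodule F (ι → F) // Typed Q k plus W})
    (i c : ℕ) (hi : i = orderOf (q : ZMod r)) (hc : c = if Even i then i else 2 * i)
    (A2 Ap : Prop)
    (h2ex : p ≠ 2 → ¬ A2 → ∃ g : ↥(Cfsg.isometryGroup F ⇑Q), g ∈ Cfsg.Omega F ⇑Q ∧
      ((g : GL ι F) : Matrix ι ι F) * ((g : GL ι F) : Matrix ι ι F) = -1)
    (h2no : p ≠ 2 → A2 → ∀ g : ↥(Cfsg.isometryGroup F ⇑Q), g ∈ Cfsg.Omega F ⇑Q →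
      ((g : GL ι F) : Matrix ι ι F) * ((g : GL ι F) : Matrix ι ι F) ≠ -1)
    (hfpfex : r ≠ 2 → r ≠ p → (2 * d) % c = 0 → tau i (2 * d / c) = ε →
      ∃ g : ↥(Cfsg.isometryGroup F ⇑Q), g ^ r = 1 ∧ g ∈ Cfsg.Omega F ⇑Q ∧
        ∀ v, Matrix.toLin' ((g : GL ι F) : Matrix ι ι F) v = v → v = 0)
    (hmax : r ≠ 2 → r ≠ p → c ≤ 2 * d → 0 < (2 * d) % c →
      ∃ g : ↥(Cfsg.isometryGroup F ⇑Q), g ^ r = 1 ∧ g ≠ 1 ∧ g ∈ Cfsg.Omega F ⇑Q ∧
        finrank F (LinearMap.ker (Matrix.toLin' ((g : GL ι F) : Matrix ι ι F) - 1)) =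
          (2 * d) % c)
    (hpcase : r = p → ((∀ x : GL ι F, x ∈ Cfsg.Geo.omegaGL ⇑Q →
      (∃ z : F, ((x ^ r : GL ι F) : Matrix ι ι F) = z • (1 : Matrix ι ι F)) →
      (∀ z : F, (x : Matrix ι ι F) ≠ z • (1 : Matrix ι ι F)) →
      ∃ W : Submodule F (ι → F), Typed Q k plus W ∧
        W.map (Matrix.toLin' (x : Matrix ι ι F)) ≤ W) ↔ Ap)) :
    (∀ x : GL ι F, x ∈ Cfsg.Geo.omegaGL ⇑Q →
      (∃ z : F, ((x ^ r : GL ι F) : Matrix ι ι F) = z • (1 : Matrix ι ι F)) →
      (∀ z : F, (x : Matrix ι ι F) ≠ z • (1 : Matrix ι ι F)) →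
      ∃ W : Submodule F (ι → F), Typed Q k plus W ∧
        W.map (Matrix.toLin' (x : Matrix ι ι F)) ≤ W) ↔
    ((r = p ∧ Ap) ∨ (r = 2 ∧ p ≠ 2 ∧ (A2 ∨ (plus ↔ (Even k ∨ q % 4 = 1)))) ∨
      (r ≠ p ∧ 2 < r ∧ Gsemi ε δ i c d (2 * k))) := by
  subst hq
  by_cases hrp : r = p
  · rw [hpcase hrp]
    constructor
    · intro h
      exact Or.inl ⟨hrp, h⟩
    · rintro (⟨-, h⟩ | ⟨h2, hp2, -⟩ | ⟨hne, -⟩)
      · exact h
      · exact absurd (hrp ▸ h2) hp2
      · exact absurd hrp hne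
  obtain ⟨f₀, hqp⟩ : ∃ f₀ : ℕ, Fintype.card F = p ^ f₀ := by
    obtain ⟨n, -, hn⟩ := FiniteField.card F p
    exact ⟨n, hn⟩
  have : Nonempty ι := by
    rw [← Fintype.card_pos_iff, hcard]
    omega
  have : Nontrivial (ι → F) := Function.nontrivial
  have hn : finrank F (ι → F) = 2 * d := by rw [Module.finrank_fintype_fun_eq_card, hcard]
  have hδ1 : δ = 1 ∨ δ = -1 := by
    by_cases hpl : plus
    · exact Or.inl (hδ.1 hpl)
    · exact Or.inr (hδ.2 hpl)
  have hε1 : ε = 1 ∨ ε = -1 := sign_eq_pm Q hQ d hn hε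
  have hεε : ε * ε = 1 := by rcases hε1 with h | h <;> rw [h] <;> norm_num
  have hmem : ∀ x : GL ι F, x ∈ Cfsg.Geo.omegaGL ⇑Q → x ∈ Cfsg.isometryGroup F ⇑Q := by
    rintro x ⟨y, -, rfl⟩
    exact y.2
  have homega : ∀ x : GL ι F, x ∈ Cfsg.Geo.omegaGL ⇑Q →
      ∃ y : ↥(Cfsg.isometryGroup F ⇑Q), y ∈ Cfsg.Omega F ⇑Q ∧ (y : GL ι F) = x := by
    rintro x ⟨y, hy, rfl⟩
    exact ⟨y, hy, rfl⟩
  have hrq : ¬ r ∣ Fintype.card F := by
    rw [hqp]
    intro h
    exact hrp ((Nat.prime_dvd_prime_iff_eq hr.out hp.out).mp (hr.out.dvd_of_dvd_pow h))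
  have r0 : (r : F) ≠ 0 := by
    intro h
    have h1 := (CharP.cast_eq_zero_iff F p r).mp h
    exact hrp ((Nat.prime_dvd_prime_iff_eq hp.out hr.out).mp h1).symm
  have hTS := typed_iff_sign Q k plus δ hδ
  rcases eq_or_ne r 2 with hr2 | hr2
  · -- `r = 2 ≠ p`
    have hp2 : p ≠ 2 := fun h => hrp (hr2.trans h.symm)
    have h2 : (2 : F) ≠ 0 := by
      intro h
      have h1 := (CharP.cast_eq_zero_iff F p 2).mp (by exact_mod_cast h)
      exact hp2 ((Nat.prime_dvd_prime_iff_eq hp.out Nat.prime_two).mp h1)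
    have hqodd : Odd (Fintype.card F) := by
      rw [hqp]
      exact (hp.out.odd_of_ne_two hp2).pow
    constructor
    · intro H
      right; left
      refine ⟨hr2, hp2, ?_⟩
      by_contra hcon
      obtain ⟨hA2, hpl⟩ := not_or.1 hcon
      obtain ⟨g, hgΩ, hgg⟩ := h2ex hp2 hA2
      have hxΩ : (g : GL ι F) ∈ Cfsg.Geo.omegaGL ⇑Q := ⟨g, hgΩ, rfl⟩
      have hns : ∀ z : F, ((g : GL ι F) : Matrix ι ι F) ≠ z • (1 : Matrix ι ι F) := by
        intro z hz
        have hz2 := sq_eq_one_of_scalar Q hQ _ g.2 z hz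
        rw [hz, Matrix.smul_mul, Matrix.one_mul, smul_smul] at hgg
        obtain ⟨j⟩ := ‹Nonempty ι›
        have h5 := congrFun (congrFun hgg j) j
        rw [Matrix.smul_apply, Matrix.one_apply_eq, Matrix.neg_apply, Matrix.one_apply_eq,
          smul_eq_mul, mul_one, ← pow_two, hz2] at h5
        exact h2 (by linear_combination h5)
      have hxr : ∃ z : F, (((g : GL ι F) ^ r : GL ι F) : Matrix ι ι F) =
          z • (1 : Matrix ι ι F) := by
        refine ⟨-1, ?_⟩
        rw [hr2, Units.val_pow_eq_pow_val, pow_two, hgg, neg_smul, one_smul]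
      obtain ⟨W, hWT, hWinv⟩ := H _ hxΩ hxr hns
      have hiso : ∀ v, Q (Matrix.toLin' ((g : GL ι F) : Matrix ι ι F) v) = Q v := by
        intro v
        rw [Matrix.toLin'_apply]
        exact (Cfsg.Agent.Lib.Helper5.OrthCard.mem_isometryGroup_iff (⇑Q) g).1 g.2 v
      have hgg' : ∀ v, Matrix.toLin' ((g : GL ι F) : Matrix ι ι F)
          (Matrix.toLin' ((g : GL ι F) : Matrix ι ι F) v) = -v := by
        intro v
        rw [Matrix.toLin'_apply, Matrix.toLin'_apply, Matrix.mulVec_mulVec, hgg,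
          Matrix.neg_mulVec, Matrix.one_mulVec]
      exact hpl ((neg_sq_typed_iff hqodd Q hQ _ hiso hgg' k hk1 (by rw [hn]; omega) plus).1
        ⟨W, hWT, fun w hw => hWinv ⟨w, hw, rfl⟩⟩)
    · rintro (⟨h, -⟩ | ⟨-, -, H⟩ | ⟨-, h, -⟩)
      · exact absurd h hrp
      · intro x hxΩ hz hns
        obtain ⟨z, hz⟩ := hz
        obtain ⟨g, gi, hgdef, hiso, gi_g, g_gi, hpow⟩ := exists_lin_data Q x (hmem x hxΩ)
        rw [← hgdef]
        have hz2 : z ^ 2 = 1 :=
          sq_eq_one_of_scalar Q hQ (x ^ r) (Subgroup.pow_mem _ (hmem x hxΩ) r) z hz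
        have hzz : z * z = 1 := by rw [← pow_two]; exact hz2
        have hgr : g ^ r = z • (1 : Module.End F (ι → F)) := by
          have h1 : Matrix.toLin' ((x : Matrix ι ι F) ^ r) =
              Matrix.toLin' (x : Matrix ι ι F) ^ r :=
            map_pow (Matrix.toLinAlgEquiv' (R := F) (n := ι)) _ r
          rw [hgdef, ← h1, ← Units.val_pow_eq_pow_val, hz, map_smul, Matrix.toLin'_one]
          rfl
        have hz' : (z - 1) * (z + 1) = 0 := by linear_combination hzz
        have key : ∃ W : Submodule F (ι → F), Typed Q k plus W ∧ ∀ w ∈ W, g w ∈ W := by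
          rcases mul_eq_zero.1 hz' with h | h
          · have hz1 : z = 1 := sub_eq_zero.1 h
            have hgg : ∀ v, g (g v) = v := by
              intro v
              have := congrArg (fun f => f v) hgr
              rwa [hr2, pow_two, hz1, one_smul] at this
            obtain ⟨W, h1, h2, h3, h4⟩ := exists_typed_of_involution hqodd Q hQ g hiso hgg k hk1
              (by rw [hn]; omega) plus
            exact ⟨W, ⟨h1, h2, h3⟩, h4⟩
          · have hz1 : z = -1 := eq_neg_of_add_eq_zero_left h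
            have hgg : ∀ v, g (g v) = -v := by
              intro v
              have := congrArg (fun f => f v) hgr
              rw [hr2, pow_two, hz1] at this
              simpa using this
            rcases H with hA2 | hpl
            · exfalso
              obtain ⟨y, hyΩ, hyx⟩ := homega x hxΩ
              apply h2no hp2 hA2 y hyΩ
              rw [hyx]
              rw [hr2, Units.val_pow_eq_pow_val, pow_two, hz1, neg_smul, one_smul] at hz
              exact hz
            · exact (neg_sq_typed_iff hqodd Q hQ g hiso hgg k hk1 (by rw [hn]; omega) plus).2 hpl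
        obtain ⟨W, hWT, hWg⟩ := key
        refine ⟨W, hWT, ?_⟩
        rintro _ ⟨w, hw, rfl⟩
        exact hWg w hw
      · omega
  · -- `r` odd, `r ≠ p`
    have hr3 : 2 < r := by
      have := hr.out.two_le
      omega
    have rodd : Odd r := hr.out.odd_of_ne_two hr2
    have hi0 : 0 < i := hi ▸ order_pos' r hrq
    have hc0 : 0 < c := by
      rw [hc]
      split_ifs <;> omega
    have hce : Even c := even_c i c hc
    constructor
    · -- necessity
      intro H
      right; right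
      refine ⟨hrp, hr3, ?_⟩
      -- a base point
      obtain ⟨W₀, -, hW₀d, hW₀nd, hW₀s⟩ := exists_typed_sub Q ⊤ (ndOn_top' Q hQ) d
        (by rw [finrank_top, hn]) k (by omega) (by omega) δ hδ1
      have hW₀T : Typed Q k plus W₀ := (hTS W₀).2 ⟨hW₀d, hW₀nd, hW₀s⟩
      have hcn : c ≤ 2 * d := by
        have := le_finrank_of_dvd_card_all Q hQ k plus W₀ hW₀T r hr2 hrq hrΩ i c hi hc
        rwa [hn] at this
      unfold Gsemi
      rcases Nat.eq_zero_or_pos ((2 * d) % c) with hk₀ | hk₀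
      · left
        refine ⟨hk₀, ?_⟩
        by_contra hcon
        push Not at hcon
        obtain ⟨hτA, hcon⟩ := hcon
        obtain ⟨g₀, hg₀r, hg₀Ω, hfpf⟩ := hfpfex hr2 hrp hk₀ hτA
        have hx₀Ω : (g₀ : GL ι F) ∈ Cfsg.Geo.omegaGL ⇑Q := ⟨g₀, hg₀Ω, rfl⟩
        have hx₀r : (g₀ : GL ι F) ^ r = 1 := by rw [← Subgroup.coe_pow, hg₀r, Subgroup.coe_one]
        have hx₀1 : (g₀ : GL ι F) ≠ 1 := by
          intro h
          obtain ⟨v, hv⟩ := exists_ne (0 : ι → F)
          apply hv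
          apply hfpf v
          rw [h, Units.val_one, Matrix.toLin'_one, LinearMap.id_apply]
        have hns := not_scalar_of_odd_order Q hQ _ g₀.2 r rodd hx₀r hx₀1
        obtain ⟨W, hWT, hWinv⟩ := H _ hx₀Ω ⟨1, by rw [hx₀r, Units.val_one, one_smul]⟩ hns
        obtain ⟨g, gi, hgdef, hiso, gi_g, g_gi, hpow⟩ := exists_lin_data Q _ g₀.2
        have hgr : g ^ r = 1 := hpow r hx₀r
        rw [← hgdef] at hWinv hfpf
        obtain ⟨a, n, -, hfixd, hdan, -, hiff⟩ := inv_typed_iff hqp Q hQ d hn ε hε g gi hiso gi_g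
          g_gi r hr2 hrp hgr i c hi hc k δ hδ1
        have hn0 : n = 0 := by
          have h1 : fixPart g ⊤ = ⊥ := by
            rw [eq_bot_iff]
            intro v hv
            rw [Submodule.mem_bot]
            exact hfpf v ((mem_fixPart g ⊤ v).1 hv).2
          rw [h1, finrank_bot] at hfixd
          omega
        obtain ⟨hWd, hWnd, hWs⟩ := (hTS W).1 hWT
        obtain ⟨b, j, hkbj, -, hjn, h0, -⟩ := hiff.1 ⟨W, hWd, hWnd, hWs,
          fun w hw => hWinv ⟨w, hw, rfl⟩⟩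
        have hj0 : j = 0 := by omega
        rw [hj0, Nat.mul_zero, Nat.add_zero] at hkbj
        apply hcon
        · rw [hkbj]
          exact Nat.mul_mod_right c b
        · rw [hkbj, Nat.mul_div_cancel_left b hc0]
          exact h0 hj0
      · right
        obtain ⟨g₀, hg₀r, hg₀1, hg₀Ω, hg₀fix⟩ := hmax hr2 hrp hcn hk₀
        have hx₀Ω : (g₀ : GL ι F) ∈ Cfsg.Geo.omegaGL ⇑Q := ⟨g₀, hg₀Ω, rfl⟩
        have hx₀r : (g₀ : GL ι F) ^ r = 1 := by rw [← Subgroup.coe_pow, hg₀r, Subgroup.coe_one]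
        have hx₀1 : (g₀ : GL ι F) ≠ 1 := fun h => hg₀1 (Subtype.ext h)
        have hns := not_scalar_of_odd_order Q hQ _ g₀.2 r rodd hx₀r hx₀1
        obtain ⟨W, hWT, hWinv⟩ := H _ hx₀Ω ⟨1, by rw [hx₀r, Units.val_one, one_smul]⟩ hns
        obtain ⟨g, gi, hgdef, hiso, gi_g, g_gi, hpow⟩ := exists_lin_data Q _ g₀.2
        have hgr : g ^ r = 1 := hpow r hx₀r
        rw [← hgdef] at hWinv hg₀fix
        have hWg : ∀ w ∈ W, g w ∈ W := fun w hw => hWinv ⟨w, hw, rfl⟩
        obtain ⟨a, n, -, hfixd, hdan, -, hiff⟩ := inv_typed_iff hqp Q hQ d hn ε hε g gi hiso gi_g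
          g_gi r hr2 hrp hgr i c hi hc k δ hδ1
        rw [fixPart_top, hg₀fix] at hfixd
        have hmodlt : (2 * d) % c < c := Nat.mod_lt _ hc0
        have hA : 2 * d / c = a ∧ (2 * d) % c = 2 * n :=
          (Nat.div_mod_unique hc0).2 ⟨by omega, by omega⟩
        obtain ⟨hWd, hWnd, hWs⟩ := (hTS W).1 hWT
        obtain ⟨b, j, hkbj, -, hjn, h0, h1⟩ := hiff.1 ⟨W, hWd, hWnd, hWs, hWg⟩
        have hM : 2 * k / c = b ∧ (2 * k) % c = 2 * j :=
          (Nat.div_mod_unique hc0).2 ⟨by omega, by omega⟩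
        refine ⟨hk₀, ?_, ?_⟩
        · by_contra hcm
          push Not at hcm
          exact corner_all (p := p) Q hQ g gi hiso gi_g g_gi r hr2 hrp hrq hgr i c hi hc
            (by rw [hg₀fix]; exact hmodlt) k plus hcm hrΩ W hWT hWg
        · rw [hA.1, hM.1, hM.2, hA.2]
          rcases Nat.eq_zero_or_pos j with hj0 | hj0
          · right; right
            exact ⟨by omega, h0 hj0⟩
          · rcases Nat.lt_or_ge j n with hjlt | hjge
            · left
              exact ⟨by omega, by omega⟩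
            · right; left
              have hjn' : j = n := le_antisymm hjn hjge
              refine ⟨by omega, ?_⟩
              have h5 := h1 hjn'
              calc tau i a * tau i b = ε * ε * (tau i a * tau i b) := by rw [hεε, one_mul]
                _ = ε * (ε * tau i a * tau i b) := by ring
                _ = ε * δ := by rw [h5]
    · -- sufficiency
      rintro (⟨h, -⟩ | ⟨h, -, -⟩ | ⟨-, -, hG⟩)
      · exact absurd h hrp
      · exact absurd h hr2
      intro x hxΩ hz hns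
      obtain ⟨z, hz⟩ := hz
      obtain ⟨g, gi, hgdef, hiso, gi_g, g_gi, hpow⟩ := exists_lin_data Q x (hmem x hxΩ)
      rw [← hgdef]
      have hz2 : z ^ 2 = 1 :=
        sq_eq_one_of_scalar Q hQ (x ^ r) (Subgroup.pow_mem _ (hmem x hxΩ) r) z hz
      have hzz : z * z = 1 := by rw [← pow_two]; exact hz2
      have hgr : g ^ r = z • (1 : Module.End F (ι → F)) := by
        have h1 : Matrix.toLin' ((x : Matrix ι ι F) ^ r) = Matrix.toLin' (x : Matrix ι ι F) ^ r :=
          map_pow (Matrix.toLinAlgEquiv' (R := F) (n := ι)) _ r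
        rw [hgdef, ← h1, ← Units.val_pow_eq_pow_val, hz, map_smul, Matrix.toLin'_one]
        rfl
      have hiso' : ∀ v, Q ((z • g) v) = Q v := by
        intro v
        rw [LinearMap.smul_apply, QuadraticMap.map_smul, hzz, hiso, one_smul]
      have gi_g' : ∀ v, (z • gi) ((z • g) v) = v := by
        intro v
        rw [LinearMap.smul_apply, LinearMap.smul_apply, map_smul, gi_g, smul_smul, hzz,
          one_smul]
      have g_gi' : ∀ v, (z • g) ((z • gi) v) = v := by
        intro v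
        rw [LinearMap.smul_apply, LinearMap.smul_apply, map_smul, g_gi, smul_smul, hzz,
          one_smul]
      have hgr' : (z • g) ^ r = 1 := by
        rw [smul_pow, hgr, smul_smul, ← pow_succ]
        obtain ⟨k', hk'⟩ := rodd
        rw [show r + 1 = 2 * (k' + 1) by omega, pow_mul, hz2, one_pow, one_smul]
      obtain ⟨a, n, -, -, hdan, hn0, hiff⟩ := inv_typed_iff hqp Q hQ d hn ε hε (z • g) (z • gi)
        hiso' gi_g' g_gi' r hr2 hrp hgr' i c hi hc k δ hδ1
      obtain ⟨b, j, h1, h2, h3, h4, h5⟩ := arith_suff ε δ hε1 hδ1 i c d (2 * k) hc0 (by omega)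
        (even_two_mul k) (by omega) hce hG a n hdan hn0
      obtain ⟨W, hWd, hWnd, hWs, hWg⟩ := hiff.2 ⟨b, j, h1, h2, h3, h4, h5⟩
      refine ⟨W, (hTS W).2 ⟨hWd, hWnd, hWs⟩, ?_⟩
      rintro _ ⟨w, hw, rfl⟩
      have h6 := W.smul_mem z (hWg w hw)
      rwa [LinearMap.smul_apply, smul_smul, hzz, one_smul] at h6

end main

end Cfsg.Agent.Lib.Helper5.ONd
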