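import Mathlib
import Cfsg.Agent.Lib.Helper5.ONd.InvolBad
import Cfsg.Agent.Lib.Helper5.ONd.Main
import Cfsg.Agent.Lib.Helper9.BGa

set_option autoImplicit false

/-!
# Involutions of `Ω^±_{2d}(q)`, `q` even, fixing no nondegenerate subspace of a given dimension
and type
-/

namespace Cfsg.Agent.Lib.Helper5.ONd

open Matrix QuadraticMap Module Cfsg
open Cfsg.Agent.Lib.Helper5.QuadTwo Cfsg.Agent.Lib.Helper5.QuadSign
open Cfsg.Agent.Lib.Helper5.OElus Cfsg.Agent.Lib.Helper5.NsPt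
open Cfsg.Agent.Lib.Helper9.BG

universe u

section elts
variable {F : Type u} [Field F] {d : ℕ}

theorem uGL_badMat_omega (h2 : (2 : F) = 0) (hd : 3 ≤ d) :
    uGL (badMat F d) ∈ Cfsg.Geo.omegaGL (quadFormPlus d F) := by
  have hneg : (-1 : F) = 1 := by linear_combination (-1 : F) * h2
  have h1 := uGL_sum_mem h2 hd (Finset.univ : Finset (Fin (d / 2)))
    (aIdx d) (bIdx d) (fun k => aIdx_ne_bIdx k k)
  have h3 : badMat F d = ∑ k : Fin (d / 2), (Matrix.single (aIdx d k) (bIdx d k) (1 : F) +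
      Matrix.single (bIdx d k) (aIdx d k) 1) := by
    unfold badMat
    apply Finset.sum_congr rfl
    intro k _
    rw [sub_eq_add_neg, Matrix.single_neg, hneg]
  rw [h3]
  exact h1

theorem uGL_badMat_entry (hd : 2 ≤ d) :
    ((uGL (badMat F d) : GL (Fin d ⊕ Fin d) F) : Matrix (Fin d ⊕ Fin d) (Fin d ⊕ Fin d) F)
      (Sum.inl (aIdx d ⟨0, by omega⟩)) (Sum.inr (bIdx d ⟨0, by omega⟩)) = 1 := by
  have hk : 0 < d / 2 := by omega
  rw [uGL_val, Matrix.fromBlocks_apply₁₂]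
  have h2 := badMat_mulVec_a (F := F) (Pi.single (bIdx d ⟨0, hk⟩) (1 : F)) ⟨0, hk⟩
  rw [Matrix.mulVec_single_one, Pi.single_eq_same] at h2
  rw [Matrix.col_apply] at h2
  exact h2

theorem uGL_badMat_not_scalar (hd : 2 ≤ d) (z : F) :
    ((uGL (badMat F d) : GL (Fin d ⊕ Fin d) F) : Matrix (Fin d ⊕ Fin d) (Fin d ⊕ Fin d) F) ≠
      z • (1 : Matrix (Fin d ⊕ Fin d) (Fin d ⊕ Fin d) F) := by
  intro hz
  have h1 := uGL_badMat_entry (F := F) hd
  rw [hz, Matrix.smul_apply, Matrix.one_apply_ne (by simp), smul_zero] at h1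
  exact zero_ne_one h1

theorem badMat_ker_even (hde : Even d) (z : Fin d → F) (hz : badMat F d *ᵥ z = 0) : z = 0 := by
  funext j
  apply badMat_ker z hz j
  obtain ⟨e, he⟩ := hde
  have := j.2
  omega

theorem finrank_ker_uGL_badMat (hde : Even d) :
    finrank F (LinearMap.ker (Matrix.toLin' ((uGL (badMat F d) : GL (Fin d ⊕ Fin d) F) :
      Matrix (Fin d ⊕ Fin d) (Fin d ⊕ Fin d) F) - 1)) ≤ d := by
  obtain ⟨K, hK⟩ : ∃ K : Submodule F (Fin d ⊕ Fin d → F),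
    K = LinearMap.ker (Matrix.toLin' ((uGL (badMat F d) : GL (Fin d ⊕ Fin d) F) :
      Matrix (Fin d ⊕ Fin d) (Fin d ⊕ Fin d) F) - 1) := ⟨_, rfl⟩
  rw [← hK]
  obtain ⟨f, hf⟩ : ∃ f : K →ₗ[F] (Fin d → F),
      f = (LinearMap.funLeft F F (Sum.inl : Fin d → Fin d ⊕ Fin d)) ∘ₗ K.subtype := ⟨_, rfl⟩
  have hinj : Function.Injective f := by
    rw [← LinearMap.ker_eq_bot, LinearMap.ker_eq_bot']
    intro v hv
    have hv2 : (Matrix.toLin' ((uGL (badMat F d) : GL (Fin d ⊕ Fin d) F) :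
      Matrix (Fin d ⊕ Fin d) (Fin d ⊕ Fin d) F) - 1) v.1 = 0 := by
      have hmem : ∀ w ∈ K, (Matrix.toLin' ((uGL (badMat F d) : GL (Fin d ⊕ Fin d) F) :
          Matrix (Fin d ⊕ Fin d) (Fin d ⊕ Fin d) F) - 1) w = 0 := by
        intro w hw
        rw [hK] at hw
        exact hw
      exact hmem v.1 v.2
    rw [uGL_badMat_sub_one] at hv2
    have hA : badMat F d *ᵥ (v.1 ∘ Sum.inr) = 0 := funext fun i => congrFun hv2 (Sum.inl i)
    have h0 := badMat_ker_even hde _ hA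
    apply Subtype.ext
    funext idx
    rcases idx with i | i
    · have := congrFun hv i
      rw [hf] at this
      exact this
    · exact congrFun h0 i
  have := LinearMap.finrank_le_finrank_of_injective hinj
  rwa [Module.finrank_fin_fun] at this

end elts

section plusbad
variable {F : Type u} [Field F] [Fintype F]

/-- **a bad involution of `Ω⁺_{2d}(q)`, `q` even, `d` even**: it fixes no nondegenerate subspace
of dimension `2k`, `k` odd -/
theorem plus_bad_two [CharP F 2] (d k : ℕ) (hd : 4 ≤ d) (hde : Even d) (hko : Odd k) :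
    ∃ x : GL (Fin d ⊕ Fin d) F, x ∈ Cfsg.Geo.omegaGL (quadFormPlus d F) ∧ x ^ 2 = 1 ∧
      (∀ z : F, (x : Matrix (Fin d ⊕ Fin d) (Fin d ⊕ Fin d) F) ≠
        z • (1 : Matrix (Fin d ⊕ Fin d) (Fin d ⊕ Fin d) F)) ∧
      ∀ W : Submodule F (Fin d ⊕ Fin d → F), finrank F W = 2 * k →
        NdOn (qPlus (F := F) d) W →
        ¬ W.map (Matrix.toLin' (x : Matrix (Fin d ⊕ Fin d) (Fin d ⊕ Fin d) F)) ≤ W := by
  have h2 : (2 : F) = 0 := by
    have := CharP.cast_eq_zero F 2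
    exact_mod_cast this
  refine ⟨uGL (badMat F d), uGL_badMat_omega h2 (by omega), uGL_pow_char 2 _,
    uGL_badMat_not_scalar (by omega), ?_⟩
  intro W hWd hnd hWinv
  obtain ⟨g, gi, hgdef, hiso, -, -, hpow⟩ :=
    exists_lin_data (qPlus (F := F) d) (uGL (badMat F d)) uGL_badMat_mem
  have hxx : ∀ v, g (g v) = v := by
    intro v
    have h := congrArg (fun f => f v) (hpow 2 (uGL_pow_char 2 _))
    simpa [pow_two] using h
  have hT : ∀ v, qPlus (F := F) d (g v - v) = 0 := by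
    intro v
    have : g v - v = Sum.elim (badMat F d *ᵥ (v ∘ Sum.inr)) 0 := by
      rw [hgdef, ← uGL_badMat_sub_one, LinearMap.sub_apply, Module.End.one_apply]
    rw [this, qPlus_apply]
    apply Finset.sum_eq_zero
    intro i _
    simp
  have hker : finrank F (LinearMap.ker (g - 1)) ≤ d := by
    rw [hgdef]
    exact finrank_ker_uGL_badMat hde
  obtain ⟨s, s', h1, hs, hs', h3, h4, -⟩ := atype_bad h2 (qPlus (F := F) d) (nd_qPlus d) g hiso
    hxx hT d (finrank_plus d) d hker W (fun v hv => hWinv ⟨v, hv, by rw [hgdef]⟩) hnd k hWd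
  have hle := Submodule.finrank_le W
  rw [hWd, finrank_plus] at hle
  obtain ⟨e, he⟩ := hde
  obtain ⟨a, ha⟩ := hs
  obtain ⟨b, hb⟩ := hs'
  obtain ⟨c, hc⟩ := hko
  omega

end plusbad

section minuselts
variable {F : Type u} [Field F] (m : ℕ)

theorem ext_iso_mem (a c : F) (g : GL (Fin m ⊕ Fin m) F)
    (hg : g ∈ Cfsg.isometryGroup F (quadFormPlus m F)) :
    extBlock (Fin 2) g ∈ Cfsg.isometryGroup F (quadFormMinus m F a c) := by
  rw [mem_iso_iff]
  intro v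
  rw [extBlock_mulVec]
  show qMinus m a c _ = qMinus m a c v
  rw [qMinus_apply, qMinus_apply]
  congr 1
  exact (mem_iso_iff (quadFormPlus m F) g).1 hg (v ∘ Sum.inl)

/-- the embedding of the isometry group of the hyperbolic part -/
noncomputable def plusToMinus (a c : F) :
    ↥(Cfsg.isometryGroup F (quadFormPlus m F)) →* ↥(Cfsg.isometryGroup F (quadFormMinus m F a c)) :=
  ((extBlock (Fin 2)).comp (Subgroup.subtype _)).codRestrict _
    (fun g => ext_iso_mem m a c g.1 g.2)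

theorem plusToMinus_val (a c : F) (g : ↥(Cfsg.isometryGroup F (quadFormPlus m F))) :
    ((plusToMinus m a c g : ↥(Cfsg.isometryGroup F (quadFormMinus m F a c))) :
      GL ((Fin m ⊕ Fin m) ⊕ Fin 2) F) = extBlock (Fin 2) (g : GL (Fin m ⊕ Fin m) F) := rfl

theorem ext_omega_mem (a c : F) (g : GL (Fin m ⊕ Fin m) F)
    (hg : g ∈ Cfsg.Geo.omegaGL (quadFormPlus m F)) :
    extBlock (Fin 2) g ∈ Cfsg.Geo.omegaGL (quadFormMinus m F a c) := by
  obtain ⟨y, hy, rfl⟩ := hg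
  refine ⟨plusToMinus m a c y, ?_, rfl⟩
  have h1 : plusToMinus m a c y ∈
      (commutator ↥(Cfsg.isometryGroup F (quadFormPlus m F))).map (plusToMinus m a c) :=
    ⟨y, hy, rfl⟩
  rw [commutator_def, Subgroup.map_commutator] at h1
  exact Subgroup.commutator_mono le_top le_top h1

theorem ext_uGL_badMat_sub_one (v : (Fin m ⊕ Fin m) ⊕ Fin 2 → F) :
    (Matrix.toLin' ((extBlock (Fin 2) (uGL (badMat F m)) : GL ((Fin m ⊕ Fin m) ⊕ Fin 2) F) :
      Matrix ((Fin m ⊕ Fin m) ⊕ Fin 2) ((Fin m ⊕ Fin m) ⊕ Fin 2) F) - 1) v =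
      Sum.elim (Sum.elim (badMat F m *ᵥ (v ∘ Sum.inl ∘ Sum.inr)) 0) 0 := by
  rw [LinearMap.sub_apply, Matrix.toLin'_apply, extBlock_mulVec, uGL_mulVec,
    Module.End.one_apply]
  funext idx
  rcases idx with (i | i) | i
  · simp [Function.comp_def]
  · simp
  · simp

theorem finrank_ker_ext_badMat (hme : Even m) :
    finrank F (LinearMap.ker (Matrix.toLin'
      ((extBlock (Fin 2) (uGL (badMat F m)) : GL ((Fin m ⊕ Fin m) ⊕ Fin 2) F) :
      Matrix ((Fin m ⊕ Fin m) ⊕ Fin 2) ((Fin m ⊕ Fin m) ⊕ Fin 2) F) - 1)) ≤ m + 2 := by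
  obtain ⟨K, hK⟩ : ∃ K : Submodule F ((Fin m ⊕ Fin m) ⊕ Fin 2 → F),
    K = LinearMap.ker (Matrix.toLin'
      ((extBlock (Fin 2) (uGL (badMat F m)) : GL ((Fin m ⊕ Fin m) ⊕ Fin 2) F) :
      Matrix ((Fin m ⊕ Fin m) ⊕ Fin 2) ((Fin m ⊕ Fin m) ⊕ Fin 2) F) - 1) := ⟨_, rfl⟩
  rw [← hK]
  obtain ⟨f, hf⟩ : ∃ f : K →ₗ[F] (Fin m ⊕ Fin 2 → F),
      f = (LinearMap.funLeft F F
        (Sum.map Sum.inl id : Fin m ⊕ Fin 2 → (Fin m ⊕ Fin m) ⊕ Fin 2)) ∘ₗ K.subtype := ⟨_, rfl⟩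
  have hinj : Function.Injective f := by
    rw [← LinearMap.ker_eq_bot, LinearMap.ker_eq_bot']
    intro v hv
    have hv2 : (Matrix.toLin'
      ((extBlock (Fin 2) (uGL (badMat F m)) : GL ((Fin m ⊕ Fin m) ⊕ Fin 2) F) :
      Matrix ((Fin m ⊕ Fin m) ⊕ Fin 2) ((Fin m ⊕ Fin m) ⊕ Fin 2) F) - 1) v.1 = 0 := by
      have hmem : ∀ w ∈ K, (Matrix.toLin'
          ((extBlock (Fin 2) (uGL (badMat F m)) : GL ((Fin m ⊕ Fin m) ⊕ Fin 2) F) :
          Matrix ((Fin m ⊕ Fin m) ⊕ Fin 2) ((Fin m ⊕ Fin m) ⊕ Fin 2) F) - 1) w = 0 := by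
        intro w hw
        rw [hK] at hw
        exact hw
      exact hmem v.1 v.2
    rw [ext_uGL_badMat_sub_one] at hv2
    have hA : badMat F m *ᵥ (v.1 ∘ Sum.inl ∘ Sum.inr) = 0 :=
      funext fun i => congrFun hv2 (Sum.inl (Sum.inl i))
    have h0 := badMat_ker_even hme _ hA
    apply Subtype.ext
    funext idx
    rcases idx with (i | i) | i
    · have := congrFun hv (Sum.inl i)
      rw [hf] at this
      exact this
    · exact congrFun h0 i
    · have := congrFun hv (Sum.inr i)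
      rw [hf] at this
      exact this
  have := LinearMap.finrank_le_finrank_of_injective hinj
  rwa [Module.finrank_fintype_fun_eq_card, Fintype.card_sum, Fintype.card_fin,
    Fintype.card_fin] at this

end minuselts

section minusbad
variable {F : Type u} [Field F] [Fintype F]

/-- **a bad involution of `Ω⁻_{2d}(q)`, `q` even, `d = d' + 1` odd**: it fixes no nondegenerate
subspace of dimension `2k` and sign `-`, `k` even -/
theorem minus_bad_two [CharP F 2] (d' k : ℕ) (hd : 3 ≤ d') (hde : Even d') (hke : Even k)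
    (a b : F)
    (hab : ∀ z₁ z₂ : F, z₁ ^ 2 + a * z₁ * z₂ + b * z₂ ^ 2 = 0 → z₁ = 0 ∧ z₂ = 0) :
    ∃ x : GL ((Fin d' ⊕ Fin d') ⊕ Fin 2) F,
      x ∈ Cfsg.Geo.omegaGL (quadFormMinus d' F a b) ∧ x ^ 2 = 1 ∧
      (∀ z : F, (x : Matrix ((Fin d' ⊕ Fin d') ⊕ Fin 2) ((Fin d' ⊕ Fin d') ⊕ Fin 2) F) ≠
        z • (1 : Matrix ((Fin d' ⊕ Fin d') ⊕ Fin 2) ((Fin d' ⊕ Fin d') ⊕ Fin 2) F)) ∧
      ∀ W : Submodule F ((Fin d' ⊕ Fin d') ⊕ Fin 2 → F), finrank F W = 2 * k →
        NdOn (qMinus (F := F) d' a b) W →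
        HasSign (res (qMinus (F := F) d' a b) W) k (-1) →
        ¬ W.map (Matrix.toLin' (x : Matrix ((Fin d' ⊕ Fin d') ⊕ Fin 2)
          ((Fin d' ⊕ Fin d') ⊕ Fin 2) F)) ≤ W := by
  have h2 : (2 : F) = 0 := by
    have := CharP.cast_eq_zero F 2
    exact_mod_cast this
  have hxmem : extBlock (Fin 2) (uGL (badMat F d')) ∈
      Cfsg.Geo.omegaGL (quadFormMinus d' F a b) :=
    ext_omega_mem d' a b _ (uGL_badMat_omega h2 (by omega))
  have hx2 : extBlock (Fin 2) (uGL (badMat F d')) ^ 2 = 1 := by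
    rw [← map_pow, uGL_pow_char 2, map_one]
  refine ⟨extBlock (Fin 2) (uGL (badMat F d')), hxmem, hx2, ?_, ?_⟩
  · intro z hz
    have h1 := uGL_badMat_entry (F := F) (d := d') (by omega)
    have h3 := congrFun (congrFun hz (Sum.inl (Sum.inl (aIdx d' ⟨0, by omega⟩))))
      (Sum.inl (Sum.inr (bIdx d' ⟨0, by omega⟩)))
    rw [extBlock_val, Matrix.fromBlocks_apply₁₁, h1, Matrix.smul_apply,
      Matrix.one_apply_ne (by simp), smul_zero] at h3
    exact one_ne_zero h3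
  intro W hWd hnd hsgn hWinv
  have hiso_mem : extBlock (Fin 2) (uGL (badMat F d')) ∈
      Cfsg.isometryGroup F ⇑(qMinus (F := F) d' a b) :=
    ext_iso_mem d' a b _ uGL_badMat_mem
  obtain ⟨g, gi, hgdef, hiso, -, -, hpow⟩ :=
    exists_lin_data (qMinus (F := F) d' a b) _ hiso_mem
  have hxx : ∀ v, g (g v) = v := by
    intro v
    have h := congrArg (fun f => f v) (hpow 2 hx2)
    simpa [pow_two] using h
  have hT : ∀ v, qMinus (F := F) d' a b (g v - v) = 0 := by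
    intro v
    have : g v - v = Sum.elim (Sum.elim (badMat F d' *ᵥ (v ∘ Sum.inl ∘ Sum.inr)) 0) 0 := by
      rw [hgdef, ← ext_uGL_badMat_sub_one, LinearMap.sub_apply, Module.End.one_apply]
    rw [this, qMinus_apply, Sum.elim_comp_inl, Sum.elim_comp_inr, map_zero, add_zero, qPlus_apply]
    apply Finset.sum_eq_zero
    intro i _
    simp
  have hker : finrank F (LinearMap.ker (g - 1)) ≤ d' + 2 := by
    rw [hgdef]
    exact finrank_ker_ext_badMat d' hde
  have hfr : finrank F ((Fin d' ⊕ Fin d') ⊕ Fin 2 → F) = 2 * (d' + 1) := by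
    rw [Module.finrank_fintype_fun_eq_card, Fintype.card_sum, Fintype.card_sum, Fintype.card_fin,
      Fintype.card_fin]
    omega
  obtain ⟨s, s', h1, hs, hs', h3, h4, h5⟩ := atype_bad h2 (qMinus (F := F) d' a b)
    (nd_qMinus d' hab) g hiso hxx hT (d' + 1) hfr (d' + 2) hker W
    (fun v hv => hWinv ⟨v, hv, by rw [hgdef]⟩) hnd k hWd
  have h6 := h5 hsgn
  have hle := Submodule.finrank_le W
  rw [hWd, hfr] at hle
  obtain ⟨e, he⟩ := hde
  obtain ⟨a', ha⟩ := hs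
  obtain ⟨b', hb⟩ := hs'
  obtain ⟨c, hc⟩ := hke
  omega

end minusbad

end Cfsg.Agent.Lib.Helper5.ONd
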