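import Mathlib
import Cfsg.Agent.Lib.Helper5.ONd.Main
import Cfsg.Agent.Lib.Helper5.OParab.MainPlus
import Cfsg.Agent.Lib.Helper9.BGa

set_option autoImplicit false

/-!
# Elements of prime order of `PΩ⁺_{2d}(q)` fixing an elliptic subspace of even dimension, all `q`
-/

namespace Cfsg.Agent.Lib.Helper5.ONd

open QuadraticMap Module Cfsg
open Cfsg.Agent.Lib.Helper5.QuadTwo Cfsg.Agent.Lib.Helper5.QuadSign
open Cfsg.Agent.Lib.Helper5.OrthPrime Cfsg.Agent.Lib.Helper5.OElus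
open Cfsg.Agent.Lib.Helper5.OParab Cfsg.Agent.Lib.Helper5.NsPt

universe u

section plus
variable {F : Type u} [Field F] [Fintype F]

/-- the common hypotheses of the general statement, for `Ω⁺_{2d}(q)` -/
theorem plus_hyps {p : ℕ} [hp : Fact p.Prime] [CharP F p] (d : ℕ) (hd : 1 ≤ d)
    (r : ℕ) [hr : Fact r.Prime] (i c : ℕ) (hi : i = orderOf ((Fintype.card F : ℕ) : ZMod r))
    (hc : c = if Even i then i else 2 * i) :
    (p ≠ 2 → ¬ (Odd d ∧ Fintype.card F % 8 ≠ 1) →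
      ∃ g : ↥(Cfsg.isometryGroup F ⇑(qPlus (F := F) d)), g ∈ Cfsg.Omega F ⇑(qPlus (F := F) d) ∧
        ((g : GL (Fin d ⊕ Fin d) F) : Matrix (Fin d ⊕ Fin d) (Fin d ⊕ Fin d) F) *
          ((g : GL (Fin d ⊕ Fin d) F) : Matrix (Fin d ⊕ Fin d) (Fin d ⊕ Fin d) F) = -1) ∧
    (p ≠ 2 → (Odd d ∧ Fintype.card F % 8 ≠ 1) →
      ∀ g : ↥(Cfsg.isometryGroup F ⇑(qPlus (F := F) d)), g ∈ Cfsg.Omega F ⇑(qPlus (F := F) d) →
        ((g : GL (Fin d ⊕ Fin d) F) : Matrix (Fin d ⊕ Fin d) (Fin d ⊕ Fin d) F) *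
          ((g : GL (Fin d ⊕ Fin d) F) : Matrix (Fin d ⊕ Fin d) (Fin d ⊕ Fin d) F) ≠ -1) ∧
    (r ≠ 2 → r ≠ p → (2 * d) % c = 0 → tau i (2 * d / c) = 1 →
      ∃ g : ↥(Cfsg.isometryGroup F ⇑(qPlus (F := F) d)), g ^ r = 1 ∧
        g ∈ Cfsg.Omega F ⇑(qPlus (F := F) d) ∧
        ∀ v, Matrix.toLin' ((g : GL (Fin d ⊕ Fin d) F) :
          Matrix (Fin d ⊕ Fin d) (Fin d ⊕ Fin d) F) v = v → v = 0) ∧
    (r ≠ 2 → r ≠ p → c ≤ 2 * d → 0 < (2 * d) % c →
      ∃ g : ↥(Cfsg.isometryGroup F ⇑(qPlus (F := F) d)), g ^ r = 1 ∧ g ≠ 1 ∧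
        g ∈ Cfsg.Omega F ⇑(qPlus (F := F) d) ∧
        finrank F (LinearMap.ker (Matrix.toLin' ((g : GL (Fin d ⊕ Fin d) F) :
          Matrix (Fin d ⊕ Fin d) (Fin d ⊕ Fin d) F) - 1)) = (2 * d) % c) := by
  obtain ⟨f₀, hqp⟩ : ∃ f₀ : ℕ, Fintype.card F = p ^ f₀ := by
    obtain ⟨n, -, hn⟩ := FiniteField.card F p
    exact ⟨n, hn⟩
  have hcard : Fintype.card (Fin d ⊕ Fin d) = 2 * d := by
    rw [Fintype.card_sum, Fintype.card_fin]
    ring
  have hoddq : p ≠ 2 → Odd (Fintype.card F) := by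
    intro hp2
    rw [hqp]
    exact (hp.out.odd_of_ne_two hp2).pow
  have hi0 : r ≠ p → 0 < i := by
    intro hrp
    have hrq : ¬ r ∣ Fintype.card F := by
      rw [hqp]
      intro h
      exact hrp ((Nat.prime_dvd_prime_iff_eq hr.out hp.out).mp (hr.out.dvd_of_dvd_pow h))
    exact hi ▸ order_pos' r hrq
  refine ⟨?_, ?_, ?_, ?_⟩
  · intro hp2 hA
    exact (exists_neg_sq_iff (hoddq hp2) (qPlus (F := F) d) (nd_qPlus (F := F) d) d hd hcard 1
      (hasSign_qPlus (F := F) d)).2 ((plus_two_iff (hoddq hp2) d).2 hA)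
  · intro hp2 hA g hgΩ hgg
    exact (plus_two_iff (hoddq hp2) d).1
      ((exists_neg_sq_iff (hoddq hp2) (qPlus (F := F) d) (nd_qPlus (F := F) d) d hd hcard 1
        (hasSign_qPlus (F := F) d)).1 ⟨g, hgΩ, hgg⟩) hA
  · intro hr2 hrp hk₀ hτ
    have hi0' := hi0 hrp
    have hid : i ∣ d := by
      by_cases hev : Even i
      · have hc' : c = i := by rw [hc, if_pos hev]
        rw [hc'] at hk₀ hτ
        obtain ⟨s, hs⟩ : i ∣ 2 * d := Nat.dvd_of_mod_eq_zero hk₀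
        have hs' : 2 * d / i = s := by rw [hs, Nat.mul_div_cancel_left _ hi0']
        rw [hs', tau_eq_one_iff hev] at hτ
        obtain ⟨s', hs''⟩ := hτ
        refine ⟨s', ?_⟩
        have : 2 * d = 2 * (i * s') := by rw [hs, hs'']; ring
        omega
      · have hc' : c = 2 * i := by rw [hc, if_neg hev]
        have h1 : 2 * i ∣ 2 * d := hc' ▸ Nat.dvd_of_mod_eq_zero hk₀
        exact (Nat.mul_dvd_mul_iff_left (by norm_num)).1 h1
    exact exists_fpf_plus p rfl d r hr.out hr2 hrp (dvd_pow_sub_one_of_dvd hi hid)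
  · intro hr2 hrp hcn hk₀
    exact exists_max_plus_all p rfl d r hr2 hrp i c hi hc hcn hk₀

set_option maxHeartbeats 1600000 in
/-- **S5988**: elements of prime order of `PΩ⁺_{2d}(q)` fixing an elliptic `m`-space -/
theorem plus_ell_main {p : ℕ} [hp : Fact p.Prime] [CharP F p] {q : ℕ}
    (hq : Fintype.card F = q)
    (d m : ℕ) (hd : 4 ≤ d) (hm : 2 ≤ m) (hme : Even m) (hmd : m < d)
    (r : ℕ) [hr : Fact r.Prime]
    (hrΩ : r ∣ Nat.card {W : Submodule F (Fin d ⊕ Fin d → F) // Module.finrank F ↥W = m ∧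
      Cfsg.Geo.IsNondegenerateOn (QuadraticMap.polar (Cfsg.quadFormPlus d F)) W ∧
      ¬ Cfsg.Geo.IsPlusTypeOn (Cfsg.quadFormPlus d F) W})
    (i c : ℕ) (hi : i = orderOf (q : ZMod r)) (hc : c = if Even i then i else 2 * i) :
    (∀ x : GL (Fin d ⊕ Fin d) F, x ∈ Cfsg.Geo.omegaGL (Cfsg.quadFormPlus d F) →
      (∃ z : F, ((x ^ r : GL (Fin d ⊕ Fin d) F) : Matrix (Fin d ⊕ Fin d) (Fin d ⊕ Fin d) F) =
        z • (1 : Matrix (Fin d ⊕ Fin d) (Fin d ⊕ Fin d) F)) →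
      (∀ z : F, (x : Matrix (Fin d ⊕ Fin d) (Fin d ⊕ Fin d) F) ≠
        z • (1 : Matrix (Fin d ⊕ Fin d) (Fin d ⊕ Fin d) F)) →
      ∃ W : Submodule F (Fin d ⊕ Fin d → F), (Module.finrank F ↥W = m ∧
        Cfsg.Geo.IsNondegenerateOn (QuadraticMap.polar (Cfsg.quadFormPlus d F)) W ∧
        ¬ Cfsg.Geo.IsPlusTypeOn (Cfsg.quadFormPlus d F) W) ∧
        W.map (Matrix.toLin' (x : Matrix (Fin d ⊕ Fin d) (Fin d ⊕ Fin d) F)) ≤ W) ↔
    ((r = 2 ∧ p ≠ 2 ∧ ((Even d ∧ q % 4 = 3 ∧ m % 4 = 2) ∨ (Odd d ∧ q % 8 ≠ 1))) ∨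
     (r ≠ p ∧ 2 < r ∧ Odd i ∧ c ≤ m ∧ 0 < m % c ∧ m % c < (2 * d) % c) ∨
     (r ≠ p ∧ 2 < r ∧ Even i ∧
       (((2 * d) % c = 0 ∧ (Odd ((2 * d) / i) ∨ (m % c = 0 ∧ Odd (m / i)))) ∨
        (i ≤ m ∧ ((0 < m % c ∧ m % c < (2 * d) % c) ∨
                  (0 < m % c ∧ m % c = (2 * d) % c ∧
                    Odd ((2 * d + m - 2 * ((2 * d) % c)) / i)) ∨
                  (m % c = 0 ∧ 0 < (2 * d) % c ∧ Odd (m / i))))))) := by
  subst hq
  obtain ⟨k, hk⟩ := hme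
  have hmk : m = 2 * k := by omega
  obtain ⟨f₀, hqp⟩ : ∃ f₀ : ℕ, Fintype.card F = p ^ f₀ := by
    obtain ⟨n, -, hn⟩ := FiniteField.card F p
    exact ⟨n, hn⟩
  have hcard : Fintype.card (Fin d ⊕ Fin d) = 2 * d := by
    rw [Fintype.card_sum, Fintype.card_fin]
    ring
  have hcoe : ⇑(qPlus (F := F) d) = Cfsg.quadFormPlus d F := qPlus_coe d
  rw [← hcoe] at hrΩ ⊢
  have class_iff : ∀ W : Submodule F (Fin d ⊕ Fin d → F), (finrank F W = m ∧
      Cfsg.Geo.IsNondegenerateOn (polar ⇑(qPlus (F := F) d)) W ∧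
      ¬ Cfsg.Geo.IsPlusTypeOn ⇑(qPlus (F := F) d) W) ↔ Typed (qPlus (F := F) d) k False W := by
    intro W
    unfold Typed
    rw [isNondegenerateOn_iff, isPlusTypeOn_iff, hmk, iff_false]
  have hrΩ' : r ∣ Nat.card {W : Submodule F (Fin d ⊕ Fin d → F) //
      Typed (qPlus (F := F) d) k False W} := by
    rw [← Nat.card_congr (Equiv.subtypeEquivRight class_iff)]
    exact hrΩ
  obtain ⟨h2ex, h2no, hfpfex, hmax⟩ := plus_hyps (F := F) (p := p) d (by omega) r i c hi hc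
  have hpcase : r = p → ((∀ x : GL (Fin d ⊕ Fin d) F, x ∈ Cfsg.Geo.omegaGL ⇑(qPlus (F := F) d) →
      (∃ z : F, ((x ^ r : GL (Fin d ⊕ Fin d) F) : Matrix (Fin d ⊕ Fin d) (Fin d ⊕ Fin d) F) =
        z • (1 : Matrix (Fin d ⊕ Fin d) (Fin d ⊕ Fin d) F)) →
      (∀ z : F, (x : Matrix (Fin d ⊕ Fin d) (Fin d ⊕ Fin d) F) ≠
        z • (1 : Matrix (Fin d ⊕ Fin d) (Fin d ⊕ Fin d) F)) →
      ∃ W : Submodule F (Fin d ⊕ Fin d → F), Typed (qPlus (F := F) d) k False W ∧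
        W.map (Matrix.toLin' (x : Matrix (Fin d ⊕ Fin d) (Fin d ⊕ Fin d) F)) ≤ W) ↔ False) := by
    intro hrp
    rw [iff_false]
    intro H
    obtain ⟨x, hxΩ, hxp, hns, hbad⟩ :=
      Cfsg.Agent.Lib.Helper9.BG.exists_bad_unipotent_elliptic (F := F) (p := p) hd
    rw [← hcoe] at hxΩ hbad
    obtain ⟨W, hWT, hWinv⟩ := H x hxΩ ⟨1, by rw [hrp, hxp, Units.val_one, one_smul]⟩ hns
    have h1 := hbad W (by rw [hWT.1]; exact even_two_mul k) hWinv
    rw [isPlusTypeOn_iff] at h1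
    exact hWT.2.2.1 h1
  have key := main_iff (p := p) rfl (qPlus (F := F) d) (nd_qPlus (F := F) d) d k hcard (by omega)
    (by omega) 1 (hasSign_qPlus (F := F) d) False (-1) ⟨fun h => absurd h id, fun _ => rfl⟩
    r hrΩ' i c hi hc (Odd d ∧ Fintype.card F % 8 ≠ 1) False h2ex h2no hfpfex hmax hpcase
  have hgoal : (∀ x : GL (Fin d ⊕ Fin d) F, x ∈ Cfsg.Geo.omegaGL ⇑(qPlus (F := F) d) →
      (∃ z : F, ((x ^ r : GL (Fin d ⊕ Fin d) F) : Matrix (Fin d ⊕ Fin d) (Fin d ⊕ Fin d) F) =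
        z • (1 : Matrix (Fin d ⊕ Fin d) (Fin d ⊕ Fin d) F)) →
      (∀ z : F, (x : Matrix (Fin d ⊕ Fin d) (Fin d ⊕ Fin d) F) ≠
        z • (1 : Matrix (Fin d ⊕ Fin d) (Fin d ⊕ Fin d) F)) →
      ∃ W : Submodule F (Fin d ⊕ Fin d → F), (Module.finrank F ↥W = m ∧
        Cfsg.Geo.IsNondegenerateOn (QuadraticMap.polar ⇑(qPlus (F := F) d)) W ∧
        ¬ Cfsg.Geo.IsPlusTypeOn ⇑(qPlus (F := F) d) W) ∧
        W.map (Matrix.toLin' (x : Matrix (Fin d ⊕ Fin d) (Fin d ⊕ Fin d) F)) ≤ W) ↔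
      (∀ x : GL (Fin d ⊕ Fin d) F, x ∈ Cfsg.Geo.omegaGL ⇑(qPlus (F := F) d) →
      (∃ z : F, ((x ^ r : GL (Fin d ⊕ Fin d) F) : Matrix (Fin d ⊕ Fin d) (Fin d ⊕ Fin d) F) =
        z • (1 : Matrix (Fin d ⊕ Fin d) (Fin d ⊕ Fin d) F)) →
      (∀ z : F, (x : Matrix (Fin d ⊕ Fin d) (Fin d ⊕ Fin d) F) ≠
        z • (1 : Matrix (Fin d ⊕ Fin d) (Fin d ⊕ Fin d) F)) →
      ∃ W : Submodule F (Fin d ⊕ Fin d → F), Typed (qPlus (F := F) d) k False W ∧
        W.map (Matrix.toLin' (x : Matrix (Fin d ⊕ Fin d) (Fin d ⊕ Fin d) F)) ≤ W) := by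
    constructor
    · intro H x h1 h2 h3
      obtain ⟨W, hW, hWi⟩ := H x h1 h2 h3
      exact ⟨W, (class_iff W).1 hW, hWi⟩
    · intro H x h1 h2 h3
      obtain ⟨W, hW, hWi⟩ := H x h1 h2 h3
      exact ⟨W, (class_iff W).2 hW, hWi⟩
  rw [hgoal, key]
  -- the arithmetic
  have hio : Odd i ↔ ¬ Even i := Nat.not_even_iff_odd.symm
  have hqodd : p ≠ 2 → Fintype.card F % 2 = 1 := by
    intro hp2
    rw [hqp]
    exact Nat.odd_iff.1 (hp.out.odd_of_ne_two hp2).pow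
  have hipos : r ≠ p → 0 < i := by
    intro hrp
    have hrq : ¬ r ∣ Fintype.card F := by
      rw [hqp]
      intro h
      exact hrp ((Nat.prime_dvd_prime_iff_eq hr.out hp.out).mp (hr.out.dvd_of_dvd_pow h))
    exact hi ▸ order_pos' r hrq
  unfold Gsemi
  rw [← hmk]
  constructor
  · rintro (⟨-, h⟩ | ⟨h1, h2, h3⟩ | ⟨h1, h2, h3⟩)
    · exact absurd h id
    · left
      refine ⟨h1, h2, ?_⟩
      have := hqodd h2
      rcases h3 with h3 | h3
      · exact Or.inr h3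
      · rw [false_iff, not_or] at h3
        have hk' : k % 2 = 1 := Nat.odd_iff.1 (Nat.not_even_iff_odd.1 h3.1)
        rcases Nat.even_or_odd d with hd' | hd'
        · left
          exact ⟨hd', by omega, by omega⟩
        · right
          exact ⟨hd', by omega⟩
    · right
      by_cases hev : Even i
      · right
        have hc' : c = i := by rw [hc, if_pos hev]
        refine ⟨h1, h2, hev, ?_⟩
        rw [hc'] at h3 ⊢
        rcases h3 with ⟨h4, h5⟩ | ⟨h4, h5, h6⟩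
        · left
          refine ⟨h4, ?_⟩
          rcases h5 with h5 | ⟨h5, h6⟩
          · left
            rw [← tau_eq_neg_one_iff hev]
            rcases tau_pm i (2 * d / i) with h | h
            · exact absurd h h5
            · exact h
          · right
            exact ⟨h5, (tau_eq_neg_one_iff hev _).1 h6⟩
        · right
          refine ⟨h5, ?_⟩
          rcases h6 with h6 | ⟨h6, h7⟩ | ⟨h6, h7⟩
          · exact Or.inl h6
          · right; left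
            refine ⟨by omega, h6, ?_⟩
            rw [one_mul, tau_mul_eq_neg_one_iff hev] at h7
            have hi0 : 0 < i := hipos h1
            have e1 := Nat.div_add_mod (2 * d) i
            have e2 := Nat.div_add_mod m i
            have e3 : 2 * d + m - 2 * ((2 * d) % i) = i * (2 * d / i + m / i) := by
              rw [Nat.mul_add]
              omega
            rw [e3, Nat.mul_div_cancel_left _ hi0]
            exact h7
          · right; right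
            exact ⟨h6, h4, (tau_eq_neg_one_iff hev _).1 h7⟩
      · left
        refine ⟨h1, h2, hio.2 hev, ?_⟩
        rw [tau_of_odd hev, tau_of_odd hev] at h3
        rcases h3 with ⟨-, h5⟩ | ⟨h4, h5, h6⟩
        · rcases h5 with h5 | ⟨-, h6⟩
          · exact absurd rfl h5
          · norm_num at h6
        · rcases h6 with h6 | ⟨-, h7⟩ | ⟨-, h7⟩
          · exact ⟨h5, h6.1, h6.2⟩
          · norm_num at h7
          · norm_num at h7
  · rintro (⟨h1, h2, h3⟩ | ⟨h1, h2, h3, h4, h5, h6⟩ | ⟨h1, h2, hev, h3⟩)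
    · right; left
      refine ⟨h1, h2, ?_⟩
      have := hqodd h2
      rcases h3 with ⟨h3, h4, h5⟩ | h3
      · right
        rw [false_iff, not_or]
        refine ⟨?_, by omega⟩
        rw [Nat.not_even_iff_odd, Nat.odd_iff]
        omega
      · exact Or.inl h3
    · right; right
      have hev : ¬ Even i := hio.1 h3
      refine ⟨h1, h2, ?_⟩
      rw [tau_of_odd hev, tau_of_odd hev]
      right
      exact ⟨by omega, h4, Or.inl ⟨h5, h6⟩⟩
    · right; right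
      have hc' : c = i := by rw [hc, if_pos hev]
      refine ⟨h1, h2, ?_⟩
      rw [hc'] at h3 ⊢
      rcases h3 with ⟨h4, h5⟩ | ⟨h4, h5⟩
      · left
        refine ⟨h4, ?_⟩
        rcases h5 with h5 | ⟨h5, h6⟩
        · left
          rw [(tau_eq_neg_one_iff hev _).2 h5]
          norm_num
        · right
          exact ⟨h5, (tau_eq_neg_one_iff hev _).2 h6⟩
      · rcases h5 with h5 | ⟨h5, h6, h7⟩ | ⟨h5, h6, h7⟩
        · right
          exact ⟨by omega, h4, Or.inl h5⟩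
        · right
          refine ⟨by omega, h4, Or.inr (Or.inl ⟨h6, ?_⟩)⟩
          rw [one_mul, tau_mul_eq_neg_one_iff hev]
          have hi0 : 0 < i := hipos h1
          have e1 := Nat.div_add_mod (2 * d) i
          have e2 := Nat.div_add_mod m i
          have e3 : 2 * d + m - 2 * ((2 * d) % i) = i * (2 * d / i + m / i) := by
            rw [Nat.mul_add]
            omega
          rw [e3, Nat.mul_div_cancel_left _ hi0] at h7
          exact h7
        · right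
          exact ⟨h6, h4, Or.inr (Or.inr ⟨h5, (tau_eq_neg_one_iff hev _).2 h7⟩)⟩

end plus

end Cfsg.Agent.Lib.Helper5.ONd
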