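import Mathlib
import Cfsg.Agent.Lib.Helper5.ONd.InvolElts

set_option autoImplicit false

/-!
# Involutions of `Ω^±_{2d}(q)`, `q` even: the invariant nondegenerate subspaces of a given
dimension and type, for matrices
-/

namespace Cfsg.Agent.Lib.Helper5.ONd

open Matrix QuadraticMap Module Cfsg
open Cfsg.Agent.Lib.Helper5.QuadTwo Cfsg.Agent.Lib.Helper5.QuadSign
open Cfsg.Agent.Lib.Helper5.OElus Cfsg.Agent.Lib.Helper5.OParab

universe u

section twocase
variable {F : Type u} [Field F] [Fintype F] {ι : Type} [Fintype ι] [DecidableEq ι]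

/-- under `Cond`, every element of the isometry group whose square is scalar fixes a subspace of
the given dimension and type -/
theorem two_case_suff [CharP F 2] (Q : QuadraticForm F (ι → F)) (hQ : Nd Q) (d k : ℕ)
    (hcard : Fintype.card ι = 2 * d) (hd : 0 < d) (ε : ℤ) (hε : HasSign Q d ε) (plus : Prop)
    (δ : ℤ) (hδ : (plus → δ = 1) ∧ (¬ plus → δ = -1)) (hC : Cond d ε k δ)
    (x : GL ι F) (hx : x ∈ Cfsg.isometryGroup F ⇑Q)
    (hz : ∃ z : F, ((x ^ 2 : GL ι F) : Matrix ι ι F) = z • (1 : Matrix ι ι F)) :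
    ∃ W : Submodule F (ι → F), Typed Q k plus W ∧
      W.map (Matrix.toLin' (x : Matrix ι ι F)) ≤ W := by
  have h2 : (2 : F) = 0 := by
    have := CharP.cast_eq_zero F 2
    exact_mod_cast this
  have : Nonempty ι := by
    rw [← Fintype.card_pos_iff, hcard]
    omega
  have hn : finrank F (ι → F) = 2 * d := by rw [Module.finrank_fintype_fun_eq_card, hcard]
  obtain ⟨z, hz⟩ := hz
  have hz2 : z ^ 2 = 1 := sq_eq_one_of_scalar Q hQ (x ^ 2) (Subgroup.pow_mem _ hx 2) z hz
  have hz1 : z = 1 := by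
    have h3 : (z + 1) ^ 2 = 0 := by linear_combination hz2 + (z + 1) * h2
    have h4 : z + 1 = 0 := pow_eq_zero_iff (two_ne_zero) |>.1 h3
    linear_combination h4 - h2
  have hx2 : x ^ 2 = 1 := by
    apply Units.ext
    rw [hz, hz1, one_smul, Units.val_one]
  obtain ⟨g, gi, hgdef, hiso, -, -, hpow⟩ := exists_lin_data Q x hx
  have hxx : ∀ v, g (g v) = v := by
    intro v
    have h := congrArg (fun f => f v) (hpow 2 hx2)
    simpa [pow_two] using h
  obtain ⟨W, -, hWx, hWnd, hWd, hWs⟩ := invol_exists h2 Q g hiso hxx d ⊤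
    (fun _ _ => Submodule.mem_top) (ndOn_top' Q hQ) (by rw [finrank_top, hn]) ε
    ((hasSign_top_iff' Q d ε).2 hε) k δ hC
  refine ⟨W, (typed_iff_sign Q k plus δ hδ W).2 ⟨hWd, hWnd, hWs⟩, ?_⟩
  rintro _ ⟨w, hw, rfl⟩
  rw [← hgdef]
  exact hWx w hw

end twocase

end Cfsg.Agent.Lib.Helper5.ONd
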