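import Mathlib
import Cfsg.Agent.Lib.Helper5.ONd.TwoCase
import Cfsg.Agent.Lib.Helper5.ONd.PlusEll
import Cfsg.Agent.Lib.Helper5.OParab.MainMinus

set_option autoImplicit false

/-!
# Elements of prime order of `PΩ⁻_{2d}(q)` fixing an elliptic subspace of even dimension, all `q`
-/

namespace Cfsg.Agent.Lib.Helper5.ONd

open QuadraticMap Module Cfsg
open Cfsg.Agent.Lib.Helper5.QuadTwo Cfsg.Agent.Lib.Helper5.QuadSign
open Cfsg.Agent.Lib.Helper5.OrthPrime Cfsg.Agent.Lib.Helper5.OElus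
open Cfsg.Agent.Lib.Helper5.OParab Cfsg.Agent.Lib.Helper5.NsPt

universe u

section minus
variable {F : Type u} [Field F] [Fintype F]

/-- the common hypotheses of the general statement, for `Ω⁻_{2(d'+1)}(q)` -/
theorem minus_hyps {p : ℕ} [hp : Fact p.Prime] [CharP F p] (d' : ℕ) (a b : F)
    (hab : ∀ z₁ z₂ : F, z₁ ^ 2 + a * z₁ * z₂ + b * z₂ ^ 2 = 0 → z₁ = 0 ∧ z₂ = 0)
    (r : ℕ) [hr : Fact r.Prime] (i c : ℕ) (hi : i = orderOf ((Fintype.card F : ℕ) : ZMod r))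
    (hc : c = if Even i then i else 2 * i) :
    (p ≠ 2 → ¬ (Even (d' + 1) ∨ Fintype.card F % 8 ≠ 7) →
      ∃ g : ↥(Cfsg.isometryGroup F ⇑(qMinus (F := F) d' a b)),
        g ∈ Cfsg.Omega F ⇑(qMinus (F := F) d' a b) ∧
        ((g : GL ((Fin d' ⊕ Fin d') ⊕ Fin 2) F) :
          Matrix ((Fin d' ⊕ Fin d') ⊕ Fin 2) ((Fin d' ⊕ Fin d') ⊕ Fin 2) F) *
          ((g : GL ((Fin d' ⊕ Fin d') ⊕ Fin 2) F) :
            Matrix ((Fin d' ⊕ Fin d') ⊕ Fin 2) ((Fin d' ⊕ Fin d') ⊕ Fin 2) F) = -1) ∧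
    (p ≠ 2 → (Even (d' + 1) ∨ Fintype.card F % 8 ≠ 7) →
      ∀ g : ↥(Cfsg.isometryGroup F ⇑(qMinus (F := F) d' a b)),
        g ∈ Cfsg.Omega F ⇑(qMinus (F := F) d' a b) →
        ((g : GL ((Fin d' ⊕ Fin d') ⊕ Fin 2) F) :
          Matrix ((Fin d' ⊕ Fin d') ⊕ Fin 2) ((Fin d' ⊕ Fin d') ⊕ Fin 2) F) *
          ((g : GL ((Fin d' ⊕ Fin d') ⊕ Fin 2) F) :
            Matrix ((Fin d' ⊕ Fin d') ⊕ Fin 2) ((Fin d' ⊕ Fin d') ⊕ Fin 2) F) ≠ -1) ∧
    (r ≠ 2 → r ≠ p → (2 * (d' + 1)) % c = 0 → tau i (2 * (d' + 1) / c) = -1 →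
      ∃ g : ↥(Cfsg.isometryGroup F ⇑(qMinus (F := F) d' a b)), g ^ r = 1 ∧
        g ∈ Cfsg.Omega F ⇑(qMinus (F := F) d' a b) ∧
        ∀ v, Matrix.toLin' ((g : GL ((Fin d' ⊕ Fin d') ⊕ Fin 2) F) :
          Matrix ((Fin d' ⊕ Fin d') ⊕ Fin 2) ((Fin d' ⊕ Fin d') ⊕ Fin 2) F) v = v → v = 0) ∧
    (r ≠ 2 → r ≠ p → c ≤ 2 * (d' + 1) → 0 < (2 * (d' + 1)) % c →
      ∃ g : ↥(Cfsg.isometryGroup F ⇑(qMinus (F := F) d' a b)), g ^ r = 1 ∧ g ≠ 1 ∧
        g ∈ Cfsg.Omega F ⇑(qMinus (F := F) d' a b) ∧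
        finrank F (LinearMap.ker (Matrix.toLin' ((g : GL ((Fin d' ⊕ Fin d') ⊕ Fin 2) F) :
          Matrix ((Fin d' ⊕ Fin d') ⊕ Fin 2) ((Fin d' ⊕ Fin d') ⊕ Fin 2) F) - 1)) =
          (2 * (d' + 1)) % c) := by
  obtain ⟨f₀, hqp⟩ : ∃ f₀ : ℕ, Fintype.card F = p ^ f₀ := by
    obtain ⟨n, -, hn⟩ := FiniteField.card F p
    exact ⟨n, hn⟩
  have hcard : Fintype.card ((Fin d' ⊕ Fin d') ⊕ Fin 2) = 2 * (d' + 1) := by
    rw [Fintype.card_sum, Fintype.card_sum, Fintype.card_fin, Fintype.card_fin]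
    ring
  have hd1 : 1 ≤ d' + 1 := by omega
  have hoddq : p ≠ 2 → Odd (Fintype.card F) := by
    intro hp2
    rw [hqp]
    exact (hp.out.odd_of_ne_two hp2).pow
  have hi0 : r ≠ p → 0 < i := by
    intro hrp
    have hrq : ¬ r ∣ Fintype.card F := by
      rw [hqp]
      intro h
      exact hrp ((Nat.prime_dvd_prime_iff_eq hr.out hp.out).mp (hr.out.dvd_of_dvd_pow h))
    exact hi ▸ order_pos' r hrq
  have hnd : Nd (qMinus (F := F) d' a b) := nd_qMinus (F := F) d' hab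
  have hs1 : HasSign (⇑(qMinus (F := F) d' a b)) (d' + 1) (-1) := hasSign_qMinus (F := F) d' hab
  refine ⟨?_, ?_, ?_, ?_⟩
  · intro hp2 hA
    exact (exists_neg_sq_iff (hoddq hp2) (qMinus (F := F) d' a b) hnd (d' + 1) hd1 hcard (-1)
      hs1).2 ((minus_two_iff (hoddq hp2) (d' + 1)).2 hA)
  · intro hp2 hA g hgΩ hgg
    exact (minus_two_iff (hoddq hp2) (d' + 1)).1
      ((exists_neg_sq_iff (hoddq hp2) (qMinus (F := F) d' a b) hnd (d' + 1) hd1 hcard (-1)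
        hs1).1 ⟨g, hgΩ, hgg⟩) hA
  · intro hr2 hrp hk₀ hτ
    have hi0' := hi0 hrp
    have hev : Even i := by
      by_contra h
      rw [tau_of_odd h] at hτ
      norm_num at hτ
    have hc' : c = i := by rw [hc, if_pos hev]
    rw [hc'] at hk₀ hτ
    obtain ⟨s, hs⟩ : i ∣ 2 * (d' + 1) := Nat.dvd_of_mod_eq_zero hk₀
    have hs' : 2 * (d' + 1) / i = s := by rw [hs, Nat.mul_div_cancel_left _ hi0']
    rw [hs', tau_eq_neg_one_iff hev] at hτ
    exact exists_fpf_minus p rfl (qMinus (F := F) d' a b) hnd (d' + 1) hcard hs1 r hr.out hr2 hrp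
      (dvd_pow_add_one_of_odd hi hi0' hev hs hτ)
  · intro hr2 hrp hcn hk₀
    exact exists_max_minus_all p rfl d' a b hab r hr2 hrp i c hi hc hcn hk₀

set_option maxHeartbeats 1600000 in
/-- **S5990**: elements of prime order of `PΩ⁻_{2(d'+1)}(q)` fixing an elliptic `m`-space -/
theorem minus_ell_main {p : ℕ} [hp : Fact p.Prime] [CharP F p] {q : ℕ}
    (hq : Fintype.card F = q)
    (d' m : ℕ) (hd : 3 ≤ d') (hm : 2 ≤ m) (hme : Even m) (hmn : m + 2 ≤ 2 * (d' + 1)) (a b : F)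
    (hab : ∀ x y : F, x ^ 2 + a * x * y + b * y ^ 2 = 0 → x = 0 ∧ y = 0)
    (r : ℕ) [hr : Fact r.Prime] (hr' : r = 2 ∨ r ≠ p)
    (hrΩ : r ∣ Nat.card {W : Submodule F ((Fin d' ⊕ Fin d') ⊕ Fin 2 → F) // Module.finrank F ↥W = m ∧
      Cfsg.Geo.IsNondegenerateOn (QuadraticMap.polar (Cfsg.quadFormMinus d' F a b)) W ∧
      ¬ Cfsg.Geo.IsPlusTypeOn (Cfsg.quadFormMinus d' F a b) W})
    (i c : ℕ) (hi : i = orderOf (q : ZMod r)) (hc : c = if Even i then i else 2 * i) :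
    (∀ x : GL ((Fin d' ⊕ Fin d') ⊕ Fin 2) F, x ∈ Cfsg.Geo.omegaGL (Cfsg.quadFormMinus d' F a b) →
      (∃ z : F, ((x ^ r : GL ((Fin d' ⊕ Fin d') ⊕ Fin 2) F) : Matrix ((Fin d' ⊕ Fin d') ⊕ Fin 2) ((Fin d' ⊕ Fin d') ⊕ Fin 2) F) = z • (1 : Matrix ((Fin d' ⊕ Fin d') ⊕ Fin 2) ((Fin d' ⊕ Fin d') ⊕ Fin 2) F)) →
      (∀ z : F, (x : Matrix ((Fin d' ⊕ Fin d') ⊕ Fin 2) ((Fin d' ⊕ Fin d') ⊕ Fin 2) F) ≠ z • (1 : Matrix ((Fin d' ⊕ Fin d') ⊕ Fin 2) ((Fin d' ⊕ Fin d') ⊕ Fin 2) F)) →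
      ∃ W : Submodule F ((Fin d' ⊕ Fin d') ⊕ Fin 2 → F), (Module.finrank F ↥W = m ∧
        Cfsg.Geo.IsNondegenerateOn (QuadraticMap.polar (Cfsg.quadFormMinus d' F a b)) W ∧
        ¬ Cfsg.Geo.IsPlusTypeOn (Cfsg.quadFormMinus d' F a b) W) ∧
        W.map (Matrix.toLin' (x : Matrix ((Fin d' ⊕ Fin d') ⊕ Fin 2) ((Fin d' ⊕ Fin d') ⊕ Fin 2) F)) ≤ W) ↔
    ((r = 2 ∧ p = 2 ∧ (Even (d' + 1) ∨ m % 4 = 2)) ∨
     (r = 2 ∧ p ≠ 2 ∧ (Even (d' + 1) ∨ q % 8 ≠ 7 ∨ m % 4 = 2)) ∨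
     (r ≠ p ∧ 2 < r ∧ Odd i ∧ ((2 * (d' + 1)) % c = 0 ∨
       (c ≤ m ∧ 0 < m % c ∧ m % c ≤ (2 * (d' + 1)) % c))) ∨
     (r ≠ p ∧ 2 < r ∧ Even i ∧
       (((2 * (d' + 1)) % c = 0 ∧ (Even ((2 * (d' + 1)) / i) ∨ (m % c = 0 ∧ Odd (m / i)))) ∨
        (0 < (2 * (d' + 1)) % c ∧ i ≤ m ∧ ((0 < m % c ∧ m % c < (2 * (d' + 1)) % c) ∨
          (m % c = 0 ∧ Odd (m / i)) ∨
          (m % c = (2 * (d' + 1)) % c ∧
            Even ((2 * (d' + 1) + m - 2 * ((2 * (d' + 1)) % c)) / i))))))) := by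
  subst hq
  obtain ⟨k, hk⟩ := hme
  have hmk : m = 2 * k := by omega
  obtain ⟨f₀, hqp⟩ : ∃ f₀ : ℕ, Fintype.card F = p ^ f₀ := by
    obtain ⟨n, -, hn⟩ := FiniteField.card F p
    exact ⟨n, hn⟩
  have hcard : Fintype.card ((Fin d' ⊕ Fin d') ⊕ Fin 2) = 2 * (d' + 1) := by
    rw [Fintype.card_sum, Fintype.card_sum, Fintype.card_fin, Fintype.card_fin]
    ring
  have hcoe : ⇑(qMinus (F := F) d' a b) = Cfsg.quadFormMinus d' F a b := qMinus_coe d' a b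
  rw [← hcoe] at hrΩ ⊢
  have hnd : Nd (qMinus (F := F) d' a b) := nd_qMinus (F := F) d' hab
  have hs1 : HasSign (⇑(qMinus (F := F) d' a b)) (d' + 1) (-1) := hasSign_qMinus (F := F) d' hab
  have hδ : (False → (-1 : ℤ) = 1) ∧ (¬ False → (-1 : ℤ) = -1) :=
    ⟨fun h => absurd h id, fun _ => rfl⟩
  have class_iff : ∀ W : Submodule F ((Fin d' ⊕ Fin d') ⊕ Fin 2 → F), (finrank F W = m ∧
      Cfsg.Geo.IsNondegenerateOn (polar ⇑(qMinus (F := F) d' a b)) W ∧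
      ¬ Cfsg.Geo.IsPlusTypeOn ⇑(qMinus (F := F) d' a b) W) ↔
      Typed (qMinus (F := F) d' a b) k False W := by
    intro W
    unfold Typed
    rw [isNondegenerateOn_iff, isPlusTypeOn_iff, hmk, iff_false]
  have hrΩ' : r ∣ Nat.card {W : Submodule F ((Fin d' ⊕ Fin d') ⊕ Fin 2 → F) //
      Typed (qMinus (F := F) d' a b) k False W} := by
    rw [← Nat.card_congr (Equiv.subtypeEquivRight class_iff)]
    exact hrΩ
  obtain ⟨h2ex, h2no, hfpfex, hmax⟩ := minus_hyps (F := F) (p := p) d' a b hab r i c hi hc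
  have hpcase : r = p → ((∀ x : GL ((Fin d' ⊕ Fin d') ⊕ Fin 2) F, x ∈ Cfsg.Geo.omegaGL ⇑(qMinus (F := F) d' a b) →
      (∃ z : F, ((x ^ r : GL ((Fin d' ⊕ Fin d') ⊕ Fin 2) F) : Matrix ((Fin d' ⊕ Fin d') ⊕ Fin 2) ((Fin d' ⊕ Fin d') ⊕ Fin 2) F) = z • (1 : Matrix ((Fin d' ⊕ Fin d') ⊕ Fin 2) ((Fin d' ⊕ Fin d') ⊕ Fin 2) F)) →
      (∀ z : F, (x : Matrix ((Fin d' ⊕ Fin d') ⊕ Fin 2) ((Fin d' ⊕ Fin d') ⊕ Fin 2) F) ≠ z • (1 : Matrix ((Fin d' ⊕ Fin d') ⊕ Fin 2) ((Fin d' ⊕ Fin d') ⊕ Fin 2) F)) →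
      ∃ W : Submodule F ((Fin d' ⊕ Fin d') ⊕ Fin 2 → F), Typed (qMinus (F := F) d' a b) k False W ∧
        W.map (Matrix.toLin' (x : Matrix ((Fin d' ⊕ Fin d') ⊕ Fin 2) ((Fin d' ⊕ Fin d') ⊕ Fin 2) F)) ≤ W) ↔
        (Even (d' + 1) ∨ Odd k)) := by
    intro hrp
    have hr2 : r = 2 := by
      rcases hr' with h | h
      · exact h
      · exact absurd hrp h
    have hp2 : p = 2 := hrp.symm.trans hr2
    subst hp2
    subst hr2
    constructor
    · intro H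
      by_contra hcon
      obtain ⟨h1, h2⟩ := not_or.1 hcon
      have hde : Even d' := by
        rcases Nat.even_or_odd d' with h | h
        · exact h
        · exact absurd h.add_one h1
      obtain ⟨x, hxΩ, hx2, hns, hbad⟩ := minus_bad_two (F := F) d' k hd hde
        (Nat.not_odd_iff_even.1 h2) a b hab
      rw [← hcoe] at hxΩ
      obtain ⟨W, hWT, hWinv⟩ := H x hxΩ ⟨1, by rw [hx2, Units.val_one, one_smul]⟩ hns
      obtain ⟨-, -, hsg⟩ := (typed_iff_sign (qMinus (F := F) d' a b) k False (-1) hδ W).1 hWT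
      exact hbad W hWT.1 hWT.2.1 hsg hWinv
    · intro hA x hxΩ hz _
      have hxiso : x ∈ Cfsg.isometryGroup F ⇑(qMinus (F := F) d' a b) := by
        obtain ⟨y, -, rfl⟩ := hxΩ
        exact y.2
      apply two_case_suff (qMinus (F := F) d' a b) hnd (d' + 1) k hcard (by omega) (-1)
        hs1 False (-1) hδ ?_ x hxiso hz
      refine ⟨by omega, Or.inr (Or.inl ⟨rfl, rfl, by omega, ?_⟩)⟩
      rcases hA with h | h
      · exact Or.inl (Nat.even_iff.1 h)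
      · exact Or.inr (Nat.odd_iff.1 h)
  have key := main_iff (p := p) rfl (qMinus (F := F) d' a b) hnd (d' + 1) k hcard (by omega)
    (by omega) (-1) hs1 False (-1) hδ
    r hrΩ' i c hi hc (Even (d' + 1) ∨ Fintype.card F % 8 ≠ 7) (Even (d' + 1) ∨ Odd k)
    h2ex h2no hfpfex hmax hpcase
  have hgoal : (∀ x : GL ((Fin d' ⊕ Fin d') ⊕ Fin 2) F, x ∈ Cfsg.Geo.omegaGL ⇑(qMinus (F := F) d' a b) →
      (∃ z : F, ((x ^ r : GL ((Fin d' ⊕ Fin d') ⊕ Fin 2) F) : Matrix ((Fin d' ⊕ Fin d') ⊕ Fin 2) ((Fin d' ⊕ Fin d') ⊕ Fin 2) F) = z • (1 : Matrix ((Fin d' ⊕ Fin d') ⊕ Fin 2) ((Fin d' ⊕ Fin d') ⊕ Fin 2) F)) →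
      (∀ z : F, (x : Matrix ((Fin d' ⊕ Fin d') ⊕ Fin 2) ((Fin d' ⊕ Fin d') ⊕ Fin 2) F) ≠ z • (1 : Matrix ((Fin d' ⊕ Fin d') ⊕ Fin 2) ((Fin d' ⊕ Fin d') ⊕ Fin 2) F)) →
      ∃ W : Submodule F ((Fin d' ⊕ Fin d') ⊕ Fin 2 → F), (Module.finrank F ↥W = m ∧
        Cfsg.Geo.IsNondegenerateOn (QuadraticMap.polar ⇑(qMinus (F := F) d' a b)) W ∧
        ¬ Cfsg.Geo.IsPlusTypeOn ⇑(qMinus (F := F) d' a b) W) ∧
        W.map (Matrix.toLin' (x : Matrix ((Fin d' ⊕ Fin d') ⊕ Fin 2) ((Fin d' ⊕ Fin d') ⊕ Fin 2) F)) ≤ W) ↔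
      (∀ x : GL ((Fin d' ⊕ Fin d') ⊕ Fin 2) F, x ∈ Cfsg.Geo.omegaGL ⇑(qMinus (F := F) d' a b) →
      (∃ z : F, ((x ^ r : GL ((Fin d' ⊕ Fin d') ⊕ Fin 2) F) : Matrix ((Fin d' ⊕ Fin d') ⊕ Fin 2) ((Fin d' ⊕ Fin d') ⊕ Fin 2) F) = z • (1 : Matrix ((Fin d' ⊕ Fin d') ⊕ Fin 2) ((Fin d' ⊕ Fin d') ⊕ Fin 2) F)) →
      (∀ z : F, (x : Matrix ((Fin d' ⊕ Fin d') ⊕ Fin 2) ((Fin d' ⊕ Fin d') ⊕ Fin 2) F) ≠ z • (1 : Matrix ((Fin d' ⊕ Fin d') ⊕ Fin 2) ((Fin d' ⊕ Fin d') ⊕ Fin 2) F)) →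
      ∃ W : Submodule F ((Fin d' ⊕ Fin d') ⊕ Fin 2 → F), Typed (qMinus (F := F) d' a b) k False W ∧
        W.map (Matrix.toLin' (x : Matrix ((Fin d' ⊕ Fin d') ⊕ Fin 2) ((Fin d' ⊕ Fin d') ⊕ Fin 2) F)) ≤ W) := by
    constructor
    · intro H x h1 h2 h3
      obtain ⟨W, hW, hWi⟩ := H x h1 h2 h3
      exact ⟨W, (class_iff W).1 hW, hWi⟩
    · intro H x h1 h2 h3
      obtain ⟨W, hW, hWi⟩ := H x h1 h2 h3
      exact ⟨W, (class_iff W).2 hW, hWi⟩
  rw [hgoal, key]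
  -- the arithmetic
  have hio : Odd i ↔ ¬ Even i := Nat.not_even_iff_odd.symm
  have hqodd : p ≠ 2 → Fintype.card F % 2 = 1 := by
    intro hp2
    rw [hqp]
    exact Nat.odd_iff.1 (hp.out.odd_of_ne_two hp2).pow
  have hipos : r ≠ p → 0 < i := by
    intro hrp
    have hrq : ¬ r ∣ Fintype.card F := by
      rw [hqp]
      intro h
      exact hrp ((Nat.prime_dvd_prime_iff_eq hr.out hp.out).mp (hr.out.dvd_of_dvd_pow h))
    exact hi ▸ order_pos' r hrq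
  have hkd : ∀ {a : ℕ}, Odd a → (2 * a) % 4 = 2 := by
    intro a ha
    have := Nat.odd_iff.1 ha
    omega
  have hke : ∀ {a : ℕ}, Even a → (2 * a) % 4 = 0 := by
    intro a ha
    have := Nat.even_iff.1 ha
    omega
  have e4 : (-1 : ℤ) * -1 = 1 := by norm_num
  unfold Gsemi
  rw [← hmk, e4]
  constructor
  · rintro (⟨h1, h2⟩ | ⟨h1, h2, h3⟩ | ⟨h1, h2, h3⟩)
    · left
      have hr2 : r = 2 := by
        rcases hr' with h | h
        · exact h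
        · exact absurd h1 h
      refine ⟨hr2, h1.symm.trans hr2, ?_⟩
      rcases h2 with h | h
      · exact Or.inl h
      · right
        rw [hmk]
        exact hkd h
    · right; left
      refine ⟨h1, h2, ?_⟩
      rcases h3 with (h | h) | h
      · exact Or.inl h
      · exact Or.inr (Or.inl h)
      · right; right
        rw [false_iff, not_or] at h
        rw [hmk]
        exact hkd (Nat.not_even_iff_odd.1 h.1)
    · right; right
      by_cases hev : Even i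
      · right
        have hc' : c = i := by rw [hc, if_pos hev]
        refine ⟨h1, h2, hev, ?_⟩
        rw [hc'] at h3 ⊢
        rcases h3 with ⟨h4, h5⟩ | ⟨h4, h5, h6⟩
        · left
          refine ⟨h4, ?_⟩
          rcases h5 with h5 | ⟨h5, h6⟩
          · left
            rw [← tau_eq_one_iff hev]
            rcases tau_pm i (2 * (d' + 1) / i) with h | h
            · exact h
            · exact absurd h h5
          · right
            exact ⟨h5, (tau_eq_neg_one_iff hev _).1 h6⟩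
        · right
          refine ⟨h4, h5, ?_⟩
          rcases h6 with h6 | ⟨h6, h7⟩ | ⟨h6, h7⟩
          · exact Or.inl h6
          · right; right
            refine ⟨h6, ?_⟩
            rw [tau_mul_eq_one_iff hev] at h7
            have hi0 : 0 < i := hipos h1
            have e1 := Nat.div_add_mod (2 * (d' + 1)) i
            have e2 := Nat.div_add_mod m i
            have e3 : 2 * (d' + 1) + m - 2 * ((2 * (d' + 1)) % i) =
                i * (2 * (d' + 1) / i + m / i) := by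
              rw [Nat.mul_add i]
              omega
            rw [e3, Nat.mul_div_cancel_left _ hi0]
            exact h7
          · right; left
            exact ⟨h6, (tau_eq_neg_one_iff hev _).1 h7⟩
      · left
        refine ⟨h1, h2, hio.2 hev, ?_⟩
        rw [tau_of_odd hev, tau_of_odd hev] at h3
        rcases h3 with ⟨h4, -⟩ | ⟨h4, h5, h6⟩
        · exact Or.inl h4
        · right
          rcases h6 with h6 | ⟨h6, -⟩ | ⟨-, h7⟩
          · exact ⟨h5, h6.1, by omega⟩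
          · exact ⟨h5, by omega, by omega⟩
          · norm_num at h7
  · rintro (⟨h1, h2, h3⟩ | ⟨h1, h2, h3⟩ | ⟨h1, h2, h3, h4⟩ | ⟨h1, h2, hev, h3⟩)
    · left
      refine ⟨h1.trans h2.symm, ?_⟩
      rcases h3 with h | h
      · exact Or.inl h
      · right
        rw [← Nat.not_even_iff_odd]
        intro hk'
        have := hke hk'
        omega
    · right; left
      refine ⟨h1, h2, ?_⟩
      have hq1 := hqodd h2
      rcases h3 with h | h | h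
      · exact Or.inl (Or.inl h)
      · exact Or.inl (Or.inr h)
      · by_cases h8 : Fintype.card F % 8 = 7
        · right
          rw [false_iff, not_or]
          refine ⟨?_, by omega⟩
          intro hk'
          have := hke hk'
          omega
        · exact Or.inl (Or.inr h8)
    · right; right
      have hev : ¬ Even i := hio.1 h3
      refine ⟨h1, h2, ?_⟩
      rw [tau_of_odd hev, tau_of_odd hev]
      rcases h4 with h4 | ⟨h4, h5, h6⟩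
      · left
        exact ⟨h4, Or.inl (by norm_num)⟩
      · by_cases hk0 : (2 * (d' + 1)) % c = 0
        · left
          exact ⟨hk0, Or.inl (by norm_num)⟩
        · right
          refine ⟨by omega, h4, ?_⟩
          rcases Nat.lt_or_ge (m % c) ((2 * (d' + 1)) % c) with hlt | hge
          · exact Or.inl ⟨h5, hlt⟩
          · exact Or.inr (Or.inl ⟨by omega, by norm_num⟩)
    · right; right
      have hc' : c = i := by rw [hc, if_pos hev]
      refine ⟨h1, h2, ?_⟩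
      rw [hc'] at h3 ⊢
      rcases h3 with ⟨h4, h5⟩ | ⟨h4, h5, h6⟩
      · left
        refine ⟨h4, ?_⟩
        rcases h5 with h5 | ⟨h5, h6⟩
        · left
          rw [(tau_eq_one_iff hev _).2 h5]
          norm_num
        · right
          exact ⟨h5, (tau_eq_neg_one_iff hev _).2 h6⟩
      · right
        refine ⟨h4, h5, ?_⟩
        rcases h6 with h6 | ⟨h6, h7⟩ | ⟨h6, h7⟩
        · exact Or.inl h6
        · exact Or.inr (Or.inr ⟨h6, (tau_eq_neg_one_iff hev _).2 h7⟩)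
        · refine Or.inr (Or.inl ⟨h6, ?_⟩)
          rw [tau_mul_eq_one_iff hev]
          have hi0 : 0 < i := hipos h1
          have e1 := Nat.div_add_mod (2 * (d' + 1)) i
          have e2 := Nat.div_add_mod m i
          have e3 : 2 * (d' + 1) + m - 2 * ((2 * (d' + 1)) % i) =
              i * (2 * (d' + 1) / i + m / i) := by
            rw [Nat.mul_add i]
            omega
          rw [e3, Nat.mul_div_cancel_left _ hi0] at h7
          exact h7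

end minus

end Cfsg.Agent.Lib.Helper5.ONd
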