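import Mathlib
import Cfsg.Agent.Lib.Helper5.ONd.TwoCase
import Cfsg.Agent.Lib.Helper5.ONd.PlusEll

set_option autoImplicit false

/-!
# Elements of prime order of `PΩ⁺_{2d}(q)` fixing a hyperbolic subspace of even dimension, all `q`
-/

namespace Cfsg.Agent.Lib.Helper5.ONd

open QuadraticMap Module Cfsg
open Cfsg.Agent.Lib.Helper5.QuadTwo Cfsg.Agent.Lib.Helper5.QuadSign
open Cfsg.Agent.Lib.Helper5.OrthPrime Cfsg.Agent.Lib.Helper5.OElus
open Cfsg.Agent.Lib.Helper5.OParab Cfsg.Agent.Lib.Helper5.NsPt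

universe u

section plus
variable {F : Type u} [Field F] [Fintype F]

set_option maxHeartbeats 1600000 in
/-- **S5974**: elements of prime order of `PΩ⁺_{2d}(q)` fixing a hyperbolic `m`-space -/
theorem plus_hyp_main {p : ℕ} [hp : Fact p.Prime] [CharP F p] {q : ℕ}
    (hq : Fintype.card F = q)
    (d m : ℕ) (hd : 4 ≤ d) (hm : 2 ≤ m) (hme : Even m) (hmd : m < d)
    (r : ℕ) [hr : Fact r.Prime] (hr' : r = 2 ∨ r ≠ p)
    (hrΩ : r ∣ Nat.card {W : Submodule F (Fin d ⊕ Fin d → F) // (Module.finrank F ↥W = m ∧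
      (∀ u ∈ W, u ≠ 0 → ∃ v ∈ W, QuadraticMap.polar (Cfsg.quadFormPlus d F) u v ≠ 0) ∧
      ∃ U : Submodule F (Fin d ⊕ Fin d → F), U ≤ W ∧ 2 * Module.finrank F ↥U = m ∧
        ∀ u ∈ U, Cfsg.quadFormPlus d F u = 0)})
    (i c : ℕ) (hi : i = orderOf (q : ZMod r)) (hc : c = if Even i then i else 2 * i) :
    (∀ x : GL (Fin d ⊕ Fin d) F, x ∈ Cfsg.Geo.omegaGL (Cfsg.quadFormPlus d F) →
      (∃ z : F, ((x ^ r : GL (Fin d ⊕ Fin d) F) : Matrix (Fin d ⊕ Fin d) (Fin d ⊕ Fin d) F) =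
        z • (1 : Matrix (Fin d ⊕ Fin d) (Fin d ⊕ Fin d) F)) →
      (∀ z : F, (x : Matrix (Fin d ⊕ Fin d) (Fin d ⊕ Fin d) F) ≠
        z • (1 : Matrix (Fin d ⊕ Fin d) (Fin d ⊕ Fin d) F)) →
      ∃ W : Submodule F (Fin d ⊕ Fin d → F), (Module.finrank F ↥W = m ∧
        (∀ u ∈ W, u ≠ 0 → ∃ v ∈ W, QuadraticMap.polar (Cfsg.quadFormPlus d F) u v ≠ 0) ∧
        ∃ U : Submodule F (Fin d ⊕ Fin d → F), U ≤ W ∧ 2 * Module.finrank F ↥U = m ∧
          ∀ u ∈ U, Cfsg.quadFormPlus d F u = 0) ∧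
        W.map (Matrix.toLin' (x : Matrix (Fin d ⊕ Fin d) (Fin d ⊕ Fin d) F)) ≤ W) ↔
    ((r = 2 ∧ ((2 * d) % 4 = 2 ∨ m % 4 = 0 ∨ q % 4 = 1)) ∨
     (r ≠ p ∧ 2 < r ∧ Odd i ∧ c ≤ m ∧ m % c ≤ (2 * d) % c) ∨
     (r ≠ p ∧ 2 < r ∧ Even i ∧
       (((2 * d) % c = 0 ∧ (Odd ((2 * d) / i) ∨ (m % c = 0 ∧ Even (m / i)))) ∨
        (i ≤ m ∧ ((m % c < (2 * d) % c ∧ 0 < m % c) ∨
                  ((2 * d) % c = m % c ∧ 0 < m % c ∧
                    Even ((2 * d + m - 2 * ((2 * d) % c)) / i)) ∨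
                  (0 < (2 * d) % c ∧ m % c = 0 ∧ Even (m / i))))))) := by
  subst hq
  obtain ⟨k, hk⟩ := hme
  have hmk : m = 2 * k := by omega
  obtain ⟨f₀, hqp⟩ : ∃ f₀ : ℕ, Fintype.card F = p ^ f₀ := by
    obtain ⟨n, -, hn⟩ := FiniteField.card F p
    exact ⟨n, hn⟩
  have hcard : Fintype.card (Fin d ⊕ Fin d) = 2 * d := by
    rw [Fintype.card_sum, Fintype.card_fin]
    ring
  have hcoe : ⇑(qPlus (F := F) d) = Cfsg.quadFormPlus d F := qPlus_coe d
  rw [← hcoe] at hrΩ ⊢
  have class_iff : ∀ W : Submodule F (Fin d ⊕ Fin d → F), (finrank F W = m ∧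
      (∀ u ∈ W, u ≠ 0 → ∃ v ∈ W, polar ⇑(qPlus (F := F) d) u v ≠ 0) ∧
      ∃ U : Submodule F (Fin d ⊕ Fin d → F), U ≤ W ∧ 2 * finrank F U = m ∧
        ∀ u ∈ U, qPlus (F := F) d u = 0) ↔ Typed (qPlus (F := F) d) k True W := by
    intro W
    unfold Typed
    rw [hmk, iff_true]
    constructor
    · rintro ⟨h1, h2, U, hUW, hUd, hU⟩
      refine ⟨h1, ?_, U, hUW, hU, by rw [hUd, h1]⟩
      intro v hv hvw
      by_contra hv0
      obtain ⟨w, hw, hne⟩ := h2 v hv hv0
      apply hne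
      rw [polar_comm]
      exact hvw w hw
    · rintro ⟨h1, h2, U, hUW, hU, hUd⟩
      refine ⟨h1, ?_, U, hUW, by rw [hUd, h1], hU⟩
      intro u hu hu0
      by_contra hcon
      push Not at hcon
      apply hu0
      apply h2 u hu
      intro w hw
      rw [polar_comm]
      exact hcon w hw
  have hrΩ' : r ∣ Nat.card {W : Submodule F (Fin d ⊕ Fin d → F) //
      Typed (qPlus (F := F) d) k True W} := by
    rw [← Nat.card_congr (Equiv.subtypeEquivRight class_iff)]
    exact hrΩ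
  obtain ⟨h2ex, h2no, hfpfex, hmax⟩ := plus_hyps (F := F) (p := p) d (by omega) r i c hi hc
  have hpcase : r = p → ((∀ x : GL (Fin d ⊕ Fin d) F, x ∈ Cfsg.Geo.omegaGL ⇑(qPlus (F := F) d) →
      (∃ z : F, ((x ^ r : GL (Fin d ⊕ Fin d) F) : Matrix (Fin d ⊕ Fin d) (Fin d ⊕ Fin d) F) =
        z • (1 : Matrix (Fin d ⊕ Fin d) (Fin d ⊕ Fin d) F)) →
      (∀ z : F, (x : Matrix (Fin d ⊕ Fin d) (Fin d ⊕ Fin d) F) ≠
        z • (1 : Matrix (Fin d ⊕ Fin d) (Fin d ⊕ Fin d) F)) →
      ∃ W : Submodule F (Fin d ⊕ Fin d → F), Typed (qPlus (F := F) d) k True W ∧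
        W.map (Matrix.toLin' (x : Matrix (Fin d ⊕ Fin d) (Fin d ⊕ Fin d) F)) ≤ W) ↔
        (Odd d ∨ Even k)) := by
    intro hrp
    have hr2 : r = 2 := by
      rcases hr' with h | h
      · exact h
      · exact absurd hrp h
    have hp2 : p = 2 := hrp.symm.trans hr2
    subst hp2
    subst hr2
    constructor
    · intro H
      by_contra hcon
      obtain ⟨h1, h2⟩ := not_or.1 hcon
      obtain ⟨x, hxΩ, hx2, hns, hbad⟩ := plus_bad_two (F := F) d k hd
        (Nat.not_odd_iff_even.1 h1) (Nat.not_even_iff_odd.1 h2)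
      rw [← hcoe] at hxΩ
      obtain ⟨W, hWT, hWinv⟩ := H x hxΩ ⟨1, by rw [hx2, Units.val_one, one_smul]⟩ hns
      exact hbad W hWT.1 hWT.2.1 hWinv
    · intro hA x hxΩ hz _
      have hxiso : x ∈ Cfsg.isometryGroup F ⇑(qPlus (F := F) d) := by
        obtain ⟨y, -, rfl⟩ := hxΩ
        exact y.2
      apply two_case_suff (qPlus (F := F) d) (nd_qPlus (F := F) d) d k hcard (by omega) 1
        (hasSign_qPlus (F := F) d) True 1 ⟨fun _ => rfl, fun h => absurd trivial h⟩ ?_ x hxiso hz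
      refine ⟨by omega, Or.inl ⟨rfl, rfl, ?_⟩⟩
      rcases hA with h | h
      · exact Or.inl (Nat.odd_iff.1 h)
      · exact Or.inr (Nat.even_iff.1 h)
  have key := main_iff (p := p) rfl (qPlus (F := F) d) (nd_qPlus (F := F) d) d k hcard (by omega)
    (by omega) 1 (hasSign_qPlus (F := F) d) True 1 ⟨fun _ => rfl, fun h => absurd trivial h⟩
    r hrΩ' i c hi hc (Odd d ∧ Fintype.card F % 8 ≠ 1) (Odd d ∨ Even k) h2ex h2no hfpfex hmax hpcase
  have hgoal : (∀ x : GL (Fin d ⊕ Fin d) F, x ∈ Cfsg.Geo.omegaGL ⇑(qPlus (F := F) d) →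
      (∃ z : F, ((x ^ r : GL (Fin d ⊕ Fin d) F) : Matrix (Fin d ⊕ Fin d) (Fin d ⊕ Fin d) F) =
        z • (1 : Matrix (Fin d ⊕ Fin d) (Fin d ⊕ Fin d) F)) →
      (∀ z : F, (x : Matrix (Fin d ⊕ Fin d) (Fin d ⊕ Fin d) F) ≠
        z • (1 : Matrix (Fin d ⊕ Fin d) (Fin d ⊕ Fin d) F)) →
      ∃ W : Submodule F (Fin d ⊕ Fin d → F), (Module.finrank F ↥W = m ∧
        (∀ u ∈ W, u ≠ 0 → ∃ v ∈ W, polar ⇑(qPlus (F := F) d) u v ≠ 0) ∧
        ∃ U : Submodule F (Fin d ⊕ Fin d → F), U ≤ W ∧ 2 * Module.finrank F ↥U = m ∧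
          ∀ u ∈ U, (qPlus (F := F) d) u = 0) ∧
        W.map (Matrix.toLin' (x : Matrix (Fin d ⊕ Fin d) (Fin d ⊕ Fin d) F)) ≤ W) ↔
      (∀ x : GL (Fin d ⊕ Fin d) F, x ∈ Cfsg.Geo.omegaGL ⇑(qPlus (F := F) d) →
      (∃ z : F, ((x ^ r : GL (Fin d ⊕ Fin d) F) : Matrix (Fin d ⊕ Fin d) (Fin d ⊕ Fin d) F) =
        z • (1 : Matrix (Fin d ⊕ Fin d) (Fin d ⊕ Fin d) F)) →
      (∀ z : F, (x : Matrix (Fin d ⊕ Fin d) (Fin d ⊕ Fin d) F) ≠
        z • (1 : Matrix (Fin d ⊕ Fin d) (Fin d ⊕ Fin d) F)) →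
      ∃ W : Submodule F (Fin d ⊕ Fin d → F), Typed (qPlus (F := F) d) k True W ∧
        W.map (Matrix.toLin' (x : Matrix (Fin d ⊕ Fin d) (Fin d ⊕ Fin d) F)) ≤ W) := by
    constructor
    · intro H x h1 h2 h3
      obtain ⟨W, hW, hWi⟩ := H x h1 h2 h3
      exact ⟨W, (class_iff W).1 hW, hWi⟩
    · intro H x h1 h2 h3
      obtain ⟨W, hW, hWi⟩ := H x h1 h2 h3
      exact ⟨W, (class_iff W).2 hW, hWi⟩
  rw [hgoal, key]
  -- the arithmetic
  have hio : Odd i ↔ ¬ Even i := Nat.not_even_iff_odd.symm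
  have hqodd : p ≠ 2 → Fintype.card F % 2 = 1 := by
    intro hp2
    rw [hqp]
    exact Nat.odd_iff.1 (hp.out.odd_of_ne_two hp2).pow
  have hqeven : p = 2 → Fintype.card F % 4 ≠ 1 := by
    intro hp2
    have h1 := Fintype.one_lt_card (α := F)
    rw [hqp, hp2] at h1 ⊢
    have hf0 : f₀ ≠ 0 := by
      intro h
      rw [h, pow_zero] at h1
      omega
    have : 2 ∣ 2 ^ f₀ := dvd_pow_self 2 hf0
    omega
  have hipos : r ≠ p → 0 < i := by
    intro hrp
    have hrq : ¬ r ∣ Fintype.card F := by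
      rw [hqp]
      intro h
      exact hrp ((Nat.prime_dvd_prime_iff_eq hr.out hp.out).mp (hr.out.dvd_of_dvd_pow h))
    exact hi ▸ order_pos' r hrq
  have hkd : ∀ {a : ℕ}, Odd a → (2 * a) % 4 = 2 := by
    intro a ha
    have := Nat.odd_iff.1 ha
    omega
  have hke : ∀ {a : ℕ}, Even a → (2 * a) % 4 = 0 := by
    intro a ha
    have := Nat.even_iff.1 ha
    omega
  unfold Gsemi
  rw [← hmk]
  constructor
  · rintro (⟨h1, h2⟩ | ⟨h1, h2, h3⟩ | ⟨h1, h2, h3⟩)
    · left
      have hr2 : r = 2 := by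
        rcases hr' with h | h
        · exact h
        · exact absurd h1 h
      refine ⟨hr2, ?_⟩
      rcases h2 with h | h
      · exact Or.inl (hkd h)
      · right; left
        rw [hmk]
        exact hke h
    · left
      refine ⟨h1, ?_⟩
      rcases h3 with ⟨h3, -⟩ | h3
      · exact Or.inl (hkd h3)
      · rcases h3.1 trivial with h | h
        · right; left
          rw [hmk]
          exact hke h
        · exact Or.inr (Or.inr h)
    · right
      by_cases hev : Even i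
      · right
        have hc' : c = i := by rw [hc, if_pos hev]
        refine ⟨h1, h2, hev, ?_⟩
        rw [hc'] at h3 ⊢
        rcases h3 with ⟨h4, h5⟩ | ⟨h4, h5, h6⟩
        · left
          refine ⟨h4, ?_⟩
          rcases h5 with h5 | ⟨h5, h6⟩
          · left
            rw [← tau_eq_neg_one_iff hev]
            rcases tau_pm i (2 * d / i) with h | h
            · exact absurd h h5
            · exact h
          · right
            exact ⟨h5, (tau_eq_one_iff hev _).1 h6⟩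
        · right
          refine ⟨h5, ?_⟩
          rcases h6 with h6 | ⟨h6, h7⟩ | ⟨h6, h7⟩
          · exact Or.inl ⟨h6.2, h6.1⟩
          · right; left
            refine ⟨h6.symm, by omega, ?_⟩
            rw [one_mul, tau_mul_eq_one_iff hev] at h7
            have hi0 : 0 < i := hipos h1
            have e1 := Nat.div_add_mod (2 * d) i
            have e2 := Nat.div_add_mod m i
            have e3 : 2 * d + m - 2 * ((2 * d) % i) = i * (2 * d / i + m / i) := by
              rw [Nat.mul_add]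
              omega
            rw [e3, Nat.mul_div_cancel_left _ hi0]
            exact h7
          · right; right
            exact ⟨h4, h6, (tau_eq_one_iff hev _).1 h7⟩
      · left
        refine ⟨h1, h2, hio.2 hev, ?_⟩
        rw [tau_of_odd hev, tau_of_odd hev] at h3
        rcases h3 with ⟨h4, h5⟩ | ⟨h4, h5, h6⟩
        · rcases h5 with h5 | ⟨h5, -⟩
          · exact absurd rfl h5
          · refine ⟨?_, by omega⟩
            exact Nat.le_of_dvd (by omega) (Nat.dvd_of_mod_eq_zero h5)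
        · rcases h6 with h6 | ⟨h6, -⟩ | ⟨h6, -⟩
          · exact ⟨h5, by omega⟩
          · exact ⟨h5, by omega⟩
          · exact ⟨h5, by omega⟩
  · rintro (⟨h1, h2⟩ | ⟨h1, h2, h3, h4, h5⟩ | ⟨h1, h2, hev, h3⟩)
    · by_cases hp2 : p = 2
      · left
        refine ⟨h1.trans hp2.symm, ?_⟩
        rcases h2 with h | h | h
        · left
          rw [← Nat.not_even_iff_odd]
          intro hd'
          have := hke hd'
          omega
        · right
          rw [← Nat.not_odd_iff_even]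
          intro hk'
          have := hkd hk'
          omega
        · exact absurd h (hqeven hp2)
      · right; left
        refine ⟨h1, hp2, ?_⟩
        have := hqodd hp2
        rcases h2 with h | h | h
        · have hd' : Odd d := by
            rw [← Nat.not_even_iff_odd]
            intro hd'
            have := hke hd'
            omega
          by_cases h8 : Fintype.card F % 8 = 1
          · right
            exact iff_of_true trivial (Or.inr (by omega))
          · exact Or.inl ⟨hd', h8⟩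
        · right
          refine iff_of_true trivial (Or.inl ?_)
          rw [← Nat.not_odd_iff_even]
          intro hk'
          have := hkd hk'
          omega
        · right
          exact iff_of_true trivial (Or.inr h)
    · right; right
      have hev : ¬ Even i := hio.1 h3
      refine ⟨h1, h2, ?_⟩
      rw [tau_of_odd hev, tau_of_odd hev]
      by_cases hk0 : (2 * d) % c = 0
      · left
        exact ⟨hk0, Or.inr ⟨by omega, rfl⟩⟩
      · right
        refine ⟨by omega, h4, ?_⟩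
        by_cases hm0 : m % c = 0
        · exact Or.inr (Or.inr ⟨hm0, rfl⟩)
        · rcases Nat.lt_or_ge (m % c) ((2 * d) % c) with hlt | hge
          · exact Or.inl ⟨by omega, hlt⟩
          · exact Or.inr (Or.inl ⟨by omega, rfl⟩)
    · right; right
      have hc' : c = i := by rw [hc, if_pos hev]
      refine ⟨h1, h2, ?_⟩
      rw [hc'] at h3 ⊢
      rcases h3 with ⟨h4, h5⟩ | ⟨h4, h5⟩
      · left
        refine ⟨h4, ?_⟩
        rcases h5 with h5 | ⟨h5, h6⟩
        · left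
          rw [(tau_eq_neg_one_iff hev _).2 h5]
          norm_num
        · right
          exact ⟨h5, (tau_eq_one_iff hev _).2 h6⟩
      · rcases h5 with h5 | ⟨h5, h6, h7⟩ | ⟨h5, h6, h7⟩
        · right
          exact ⟨by omega, h4, Or.inl ⟨h5.2, h5.1⟩⟩
        · right
          refine ⟨by omega, h4, Or.inr (Or.inl ⟨h5.symm, ?_⟩)⟩
          rw [one_mul, tau_mul_eq_one_iff hev]
          have hi0 : 0 < i := hipos h1
          have e1 := Nat.div_add_mod (2 * d) i
          have e2 := Nat.div_add_mod m i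
          have e3 : 2 * d + m - 2 * ((2 * d) % i) = i * (2 * d / i + m / i) := by
            rw [Nat.mul_add]
            omega
          rw [e3, Nat.mul_div_cancel_left _ hi0] at h7
          exact h7
        · right
          exact ⟨h5, h4, Or.inr (Or.inr ⟨h6, (tau_eq_one_iff hev _).2 h7⟩)⟩

end plus

end Cfsg.Agent.Lib.Helper5.ONd
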